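import Mathlib
import Cfsg.Agent.FgsSix.MixedOrder.Main
import Cfsg.Agent.PLocal.Cores
import Cfsg.Agent.Transfer.NormalPComplement
import Cfsg.Agent.Solvable.SchurZassenhaus
import Cfsg.Agent.CharactersDeep.QuaternionSylow

/-!
# Cyclic Sylow subgroup and abelian subgroups of order prime to `p`: reduction to simple groups
-/

namespace CfsgLib.FgsSix.CyclicAbelian

open Cfsg (HasNormalPComplement pCore pPrimeCore)
open MixedOrder (PEl)

universe u

variable {p : ℕ}

/-- Cyclic Sylow `p`-subgroups and abelian subgroups of order prime to `p`. -/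
structure Hyp (G : Type*) [Group G] (p : ℕ) : Prop where
  cyc : ∀ P : Sylow p G, IsCyclic ↥(P : Subgroup G)
  ab : ∀ H : Subgroup G, ¬ p ∣ Nat.card ↥H → ∀ a ∈ H, ∀ b ∈ H, a * b = b * a

/-- The conclusion: a normal `p`-complement or normal Sylow `p`-subgroups. -/
def Concl (G : Type*) [Group G] (p : ℕ) : Prop :=
  HasNormalPComplement p G ∨ ∀ P : Sylow p G, (P : Subgroup G).Normal

section

variable {G : Type*} [Group G]

theorem mem_of_pow_mem {S : Subgroup G} {g : G} {m n : ℕ} (h : m.Coprime n) (hm : g ^ m ∈ S)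
    (hn : g ^ n ∈ S) : g ∈ S := by
  have e : g = (g ^ m) ^ (Nat.gcdA m n) * (g ^ n) ^ (Nat.gcdB m n) := by
    rw [← zpow_natCast, ← zpow_natCast g n, ← zpow_mul, ← zpow_mul, ← zpow_add, ← Nat.gcd_eq_gcd_ab, h.gcd_eq_one,
      Nat.cast_one, zpow_one]
  rw [e]
  exact S.mul_mem (S.zpow_mem hm _) (S.zpow_mem hn _)

variable [Finite G] [Fact p.Prime]

theorem Hyp.isCyclic (h : Hyp G p) {A : Subgroup G} (hA : IsPGroup p ↥A) : IsCyclic ↥A := by
  obtain ⟨P, hP⟩ := hA.exists_le_sylow
  have := h.cyc P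
  exact isCyclic_of_injective (Subgroup.inclusion hP) (Subgroup.inclusion_injective hP)

theorem Hyp.abelian (h : Hyp G p) {A : Subgroup G} (hA : IsPGroup p ↥A) :
    ∀ a ∈ A, ∀ b ∈ A, a * b = b * a := fun a ha b hb => by
  have := h.isCyclic hA
  exact congrArg Subtype.val ((IsCyclic.isMulCommutative (α := ↥A)).is_comm.comm ⟨a, ha⟩ ⟨b, hb⟩)

theorem Hyp.subgroup (h : Hyp G p) (K : Subgroup G) : Hyp ↥K p := by
  refine ⟨fun P => ?_, fun H hH a ha b hb => Subtype.ext ?_⟩
  · have := h.isCyclic (P.isPGroup'.map K.subtype)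
    exact isCyclic_of_injective
      ((P : Subgroup ↥K).equivMapOfInjective K.subtype K.subtype_injective).toMonoidHom (MulEquiv.injective _)
  · exact h.ab (H.map K.subtype) (by rwa [Subgroup.card_subtype]) _ ⟨a, ha, rfl⟩ _ ⟨b, hb, rfl⟩

theorem not_dvd_card_zpowers {a : G} (ha : ¬ p ∣ orderOf a) : ¬ p ∣ Nat.card ↥(Subgroup.zpowers a) := by
  rwa [Nat.card_zpowers]

theorem not_dvd_sup {H N : Subgroup G} (hH : ¬ p ∣ Nat.card ↥H) (hN : ¬ p ∣ Nat.card ↥N)
    (h : H ≤ Subgroup.normalizer (N : Set G)) : ¬ p ∣ Nat.card ↥(H ⊔ N) := fun hd =>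
  ((Fact.out : p.Prime).dvd_mul.1 (hd.trans (MixedOrder.card_sup_dvd h))).elim hH hN

/-- An element of order prime to `p` normalizing a cyclic `p`-group either centralizes it or fixes
only the identity, and then every element is a commutator with it. -/
theorem act_cases {P : Subgroup G} (hP : IsPGroup p ↥P) (hcyc : IsCyclic ↥P) {a : G}
    (ha : ¬ p ∣ orderOf a) (haN : a ∈ Subgroup.normalizer (P : Set G)) :
    (∀ x ∈ P, a * x = x * a) ∨
      ((∀ x ∈ P, a * x = x * a → x = 1) ∧ ∀ y ∈ P, ∃ x ∈ P, a * x * a⁻¹ * x⁻¹ = y) := by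
  have hp : p.Prime := Fact.out
  have hcomm : ∀ x ∈ P, ∀ y ∈ P, Commute x y := fun x hx y hy =>
    congrArg Subtype.val ((IsCyclic.isMulCommutative (α := ↥P)).is_comm.comm ⟨x, hx⟩ ⟨y, hy⟩)
  have hmem : ∀ x ∈ P, a * x * a⁻¹ ∈ P := fun x hx => (Subgroup.mem_normalizer_iff.1 haN x).1 hx
  let ψ : ↥P →* ↥P :=
    { toFun := fun x => ⟨a * x * a⁻¹ * (x : G)⁻¹, P.mul_mem (hmem x x.2) (P.inv_mem x.2)⟩
      map_one' := Subtype.ext (by simp)
      map_mul' := fun x y => Subtype.ext (by
        show a * ((x : G) * y) * a⁻¹ * ((x : G) * y)⁻¹ = a * x * a⁻¹ * (x : G)⁻¹ * (a * y * a⁻¹ * (y : G)⁻¹)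
        rw [show a * ((x : G) * y) * a⁻¹ * ((x : G) * y)⁻¹ = a * x * a⁻¹ * ((a * y * a⁻¹ * (y : G)⁻¹) * (x : G)⁻¹) by group,
          ((hcomm _ (P.mul_mem (hmem y y.2) (P.inv_mem y.2)) _ (P.inv_mem x.2))).eq, ← mul_assoc]) }
  have hdis : ψ.ker ⊓ ψ.range = ⊥ := by
    rw [eq_bot_iff]
    rintro y ⟨hy, x, rfl⟩
    have h1 : a * (ψ x : G) * a⁻¹ = (ψ x : G) := mul_inv_eq_one.1 (congrArg Subtype.val hy)
    set w : G := (ψ x : G)
    have hw : a * x * a⁻¹ = w * x := by simp [w, ψ]
    have hit : ∀ i : ℕ, a ^ i * x * (a ^ i)⁻¹ = w ^ i * x := by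
      intro i
      induction i with
      | zero => simp
      | succ i ih =>
        have e1 : a ^ (i + 1) * x * (a ^ (i + 1))⁻¹ = a * (a ^ i * x * (a ^ i)⁻¹) * a⁻¹ := by
          rw [pow_succ']; group
        have e2 : a * (w ^ i * x) * a⁻¹ = (a * w * a⁻¹) ^ i * (a * x * a⁻¹) := by
          rw [conj_pow]; group
        rw [e1, ih, e2, h1, hw, pow_succ, mul_assoc]
    have h2 := hit (orderOf a)
    rw [pow_orderOf_eq_one, one_mul, inv_one, mul_one] at h2
    have h3 : w ^ orderOf a = 1 := mul_eq_right.1 h2.symm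
    obtain ⟨j, hj⟩ := IsPGroup.iff_orderOf.1 hP (ψ x)
    refine Subgroup.mem_bot.2 (orderOf_eq_one_iff.1 (Nat.eq_one_of_dvd_coprimes
      (Nat.Coprime.pow_left j (hp.coprime_iff_not_dvd.2 ha)) (hj ▸ dvd_rfl) ?_))
    exact orderOf_dvd_of_pow_eq_one (Subtype.ext (by rw [SubgroupClass.coe_pow]; exact h3))
  by_cases hr : ψ.range = ⊥
  · left
    intro x hx
    have : ψ ⟨x, hx⟩ = 1 := Subgroup.mem_bot.1 (hr ▸ ⟨_, rfl⟩)
    exact mul_inv_eq_iff_eq_mul.1 (mul_inv_eq_one.1 (congrArg Subtype.val this))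
  · right
    have hker : ψ.ker = ⊥ := by
      by_contra hk
      obtain ⟨i, hi⟩ := IsPGroup.iff_card.1 (hP.to_subgroup ψ.ker)
      obtain ⟨j, hj⟩ := IsPGroup.iff_card.1 (hP.to_subgroup ψ.range)
      have hi0 : i ≠ 0 := fun h => hk (Subgroup.card_eq_one.1 (by rw [hi, h, pow_zero]))
      have hj0 : j ≠ 0 := fun h => hr (Subgroup.card_eq_one.1 (by rw [hj, h, pow_zero]))
      obtain ⟨u, hu⟩ := exists_prime_orderOf_dvd_card' (G := ↥ψ.ker) p (hi ▸ dvd_pow_self p hi0)
      obtain ⟨v, hv⟩ := exists_prime_orderOf_dvd_card' (G := ↥ψ.range) p (hj ▸ dvd_pow_self p hj0)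
      rw [← Subgroup.orderOf_coe] at hu hv
      have e : Subgroup.zpowers (u : ↥P) = Subgroup.zpowers (v : ↥P) :=
        CfsgLib.CharactersDeep.QuaternionSylow.eq_of_card_eq (by rw [Nat.card_zpowers, Nat.card_zpowers, hu, hv])
      have : (u : ↥P) ∈ ψ.ker ⊓ ψ.range :=
        ⟨u.2, Subgroup.zpowers_le.2 v.2 (e ▸ Subgroup.mem_zpowers _)⟩
      rw [hdis, Subgroup.mem_bot] at this
      rw [this, orderOf_one] at hu
      exact hp.one_lt.ne hu
    have hinj : Function.Injective ψ := ψ.ker_eq_bot_iff.1 hker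
    refine ⟨fun x hx h => ?_, fun y hy => ?_⟩
    · have : ψ ⟨x, hx⟩ = 1 := Subtype.ext (by
        show a * x * a⁻¹ * x⁻¹ = 1
        rw [h, mul_inv_cancel_right, mul_inv_cancel])
      exact congrArg Subtype.val (hinj (this.trans (map_one ψ).symm))
    · obtain ⟨⟨x, hx⟩, hxy⟩ := (Finite.injective_iff_surjective.1 hinj) ⟨y, hy⟩
      exact ⟨x, hx, congrArg Subtype.val hxy⟩

/-- If every element of order prime to `p` in `N(P)` centralizes `P`, there is a normal `p`-complement. -/
theorem Hyp.hasNormalPComplement_of_local (h : Hyp G p) (P : Sylow p G)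
    (hl : ∀ a, ¬ p ∣ orderOf a → a ∈ Subgroup.normalizer ((P : Subgroup G) : Set G) →
      ∀ x ∈ (P : Subgroup G), a * x = x * a) :
    HasNormalPComplement p G := by
  have hp : p.Prime := Fact.out
  have hNC : Subgroup.normalizer ((P : Subgroup G) : Set G) ≤ Subgroup.centralizer ((P : Subgroup G) : Set G) := by
    intro g hg
    have hpos := (orderOf_pos g).ne'
    set k := (orderOf g).factorization p
    refine mem_of_pow_mem (m := p ^ k) (n := orderOf g / p ^ k)
      (Nat.Coprime.pow_left k (hp.coprime_iff_not_dvd.2 (Nat.not_dvd_ordCompl hp hpos))) ?_ ?_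
    · intro x hx
      refine (hl _ ?_ (Subgroup.pow_mem _ hg _) x hx).symm
      rw [orderOf_pow' _ (pow_ne_zero _ hp.ne_zero), Nat.gcd_eq_right (Nat.ordProj_dvd _ p)]
      exact Nat.not_dvd_ordCompl hp hpos
    · intro x hx
      refine h.abelian P.isPGroup' x hx _ (PEl.mem_sylow P ⟨k, ?_⟩ (Subgroup.pow_mem _ hg _))
      rw [orderOf_pow' _ (Nat.ordCompl_pos p hpos).ne', Nat.gcd_eq_right (Nat.div_dvd_of_dvd (Nat.ordProj_dvd _ p)),
        Nat.div_div_self (Nat.ordProj_dvd _ p) hpos]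
  refine CfsgLib.Transfer.hasNormalPComplement_iff.2 ?_
  have hc := MonoidHom.ker_transferSylow_isComplement' P hNC
  have : HasNormalPComplement p G := ⟨P, _, inferInstance, hc⟩
  exact CfsgLib.Transfer.hasNormalPComplement_iff.1 this

theorem Concl.normal_or_isPGroup_or (h : Concl G p) (P : Sylow p G) :
    (P : Subgroup G).Normal ∨ HasNormalPComplement p G := h.elim Or.inr fun hn => Or.inl (hn P)

end

/-- The simple configuration. -/
structure CConf (G : Type*) [Group G] (p : ℕ) : Prop where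
  hyp : Hyp G p
  simple : ∀ N : Subgroup G, N.Normal → N = ⊥ ∨ N = ⊤
  nab : ∃ a b : G, a * b ≠ b * a
  dvd : p ∣ Nat.card G
  concl : ∀ K : Subgroup G, K ≠ ⊤ → Concl ↥K p
  not_concl : ¬ HasNormalPComplement p G

/-- Reduction to a simple configuration. -/
theorem concl_of_no_conf [Fact p.Prime] (n : ℕ) :
    (∀ (G : Type u) [Group G] [Finite G], Nat.card G ≤ n → ¬ CConf G p) →
    ∀ (G : Type u) [Group G] [Finite G], Nat.card G = n → Hyp G p → Concl G p := by
  induction n using Nat.strong_induction_on with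
  | _ n ih =>
  intro hno G _ _ hn h
  have hp : p.Prime := Fact.out
  by_contra hcon
  simp only [Concl, not_or] at hcon
  obtain ⟨hnc, hnn⟩ := hcon
  have hIH : ∀ (H : Type u) [Group H] [Finite H], Nat.card H < n → Hyp H p → Concl H p :=
    fun H _ _ hlt hH => ih _ hlt (fun G' _ _ hle => hno G' (hle.trans hlt.le)) H rfl hH
  have hpG : p ∣ Nat.card G := by
    by_contra hd
    exact hnc (CfsgLib.Transfer.hasNormalPComplement_of_not_dvd_card hd)
  obtain ⟨P₀, hP₀⟩ := not_forall.1 hnn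
  -- the p'-core is trivial
  have hK : pPrimeCore p G = ⊥ := by
    by_contra hne
    set K := pPrimeCore p G with hK
    have hKp : ¬ p ∣ Nat.card ↥K := CfsgLib.PLocal.not_dvd_iff_coprime.1 (CfsgLib.PLocal.coprime_card_pPrimeCore p G)
    have hlt : Nat.card (G ⧸ K) < n := by
      rw [← hn, Subgroup.card_eq_card_quotient_mul_card_subgroup K]
      exact lt_mul_of_one_lt_right Nat.card_pos ((Subgroup.one_lt_card_iff_ne_bot K).2 hne)
    have hHQ : Hyp (G ⧸ K) p := by
      refine ⟨fun Q => ?_, fun H hH a ha b hb => ?_⟩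
      · obtain ⟨R, rfl⟩ := Sylow.mapSurjective_surjective (QuotientGroup.mk'_surjective K) p Q
        have := h.cyc R
        exact isCyclic_of_surjective ((QuotientGroup.mk' K).subgroupMap (R : Subgroup G))
          (MonoidHom.subgroupMap_surjective _ _)
      · obtain ⟨a, rfl⟩ := QuotientGroup.mk'_surjective K a
        obtain ⟨b, rfl⟩ := QuotientGroup.mk'_surjective K b
        rw [← map_mul, ← map_mul, h.ab (H.comap (QuotientGroup.mk' K)) ?_ a ha b hb]
        intro hd
        have e := QuotientGroup.card_preimage_mk K (H : Set (G ⧸ K))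
        exact (hp.dvd_mul.1 (hd.trans (dvd_of_eq e))).elim hKp hH
    rcases hIH _ hlt hHQ with hq | hq
    · exact hnc (CfsgLib.Transfer.hasNormalPComplement_of_quotient K hKp hq)
    set L := (P₀ : Subgroup G) ⊔ K with hL
    have hLn : L.Normal := by
      have := (hq (P₀.mapSurjective (QuotientGroup.mk'_surjective K))).comap (QuotientGroup.mk' K)
      rwa [Sylow.coe_mapSurjective, Subgroup.comap_map_eq, QuotientGroup.ker_mk'] at this
    obtain ⟨a, ha, haN, x₀, hx₀, hax₀⟩ : ∃ a, ¬ p ∣ orderOf a ∧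
        a ∈ Subgroup.normalizer ((P₀ : Subgroup G) : Set G) ∧ ∃ x ∈ (P₀ : Subgroup G), a * x ≠ x * a := by
      by_contra hcon
      push Not at hcon
      exact hnc (h.hasNormalPComplement_of_local P₀ hcon)
    have hab : ∀ k ∈ K, a * k = k * a := fun k hk =>
      h.ab _ (not_dvd_sup (not_dvd_card_zpowers ha) hKp (by rw [Subgroup.normalizer_eq_top_iff.2 inferInstance]; exact le_top))
        a (Subgroup.mem_sup_left (Subgroup.mem_zpowers a)) k (Subgroup.mem_sup_right hk)
    obtain ⟨-, hsurj⟩ := (act_cases P₀.isPGroup' (h.cyc P₀) ha haN).resolve_left (fun hall => hax₀ (hall x₀ hx₀))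
    set C := Subgroup.centralizer (K : Set G)
    have hCn : C.Normal := inferInstance
    have haC : a ∈ C := fun k hk => (hab k hk).symm
    have hPC : ∀ y ∈ (P₀ : Subgroup G), ∀ k ∈ K, Commute y k := by
      intro y hy k hk
      obtain ⟨x, hx, rfl⟩ := hsurj y hy
      have h1 : a * x * a⁻¹ * x⁻¹ ∈ C := by
        rw [show a * x * a⁻¹ * x⁻¹ = a * (x * a⁻¹ * x⁻¹) by group]
        exact C.mul_mem haC (hCn.conj_mem _ (C.inv_mem haC) x)
      exact (h1 k hk).symm
    refine hP₀ ⟨fun x hx g => ?_⟩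
    have h1 : g * x * g⁻¹ ∈ L := hLn.conj_mem x (Subgroup.mem_sup_left hx) g
    rw [← SetLike.mem_coe, Subgroup.mul_normal] at h1
    obtain ⟨y, hy, k, hk, hyk⟩ := h1
    obtain ⟨e, he⟩ := (PEl.of_mem P₀.isPGroup' hx).conj g
    obtain ⟨f, hf⟩ := PEl.of_mem P₀.isPGroup' (show y ∈ (P₀ : Subgroup G) from hy)
    have hkp : PEl p k := by
      have h3 : (y * k) ^ (p ^ (max e f)) = 1 := by
        rw [show y * k = g * x * g⁻¹ from hyk, ← orderOf_dvd_iff_pow_eq_one, he]
        exact pow_dvd_pow p (le_max_left _ _)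
      have h4 : y ^ (p ^ (max e f)) = 1 := by
        rw [← orderOf_dvd_iff_pow_eq_one, hf]
        exact pow_dvd_pow p (le_max_right _ _)
      rw [(hPC y hy k hk).mul_pow, h4, one_mul, ← orderOf_dvd_iff_pow_eq_one] at h3
      obtain ⟨j, -, hj⟩ := (Nat.dvd_prime_pow hp).1 h3
      exact ⟨j, hj⟩
    obtain ⟨j, hj⟩ := hkp
    have hk1 : k = 1 := orderOf_eq_one_iff.1 (Nat.eq_one_of_dvd_coprimes
      (Nat.Coprime.pow_left j (hp.coprime_iff_not_dvd.2 hKp)) (hj ▸ dvd_rfl) (Subgroup.orderOf_dvd_natCard K hk))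
    rw [← hyk, hk1]
    show y * 1 ∈ (P₀ : Subgroup G)
    rw [mul_one]
    exact hy
  -- the p-core is trivial
  have hZ : pCore p G = ⊥ := by
    by_contra hne
    set Z := pCore p G with hZdef
    have hZp : IsPGroup p ↥Z := CfsgLib.PLocal.isPGroup_pCore p G
    have hlt : Nat.card (G ⧸ Z) < n := by
      rw [← hn, Subgroup.card_eq_card_quotient_mul_card_subgroup Z]
      exact lt_mul_of_one_lt_right Nat.card_pos ((Subgroup.one_lt_card_iff_ne_bot Z).2 hne)
    obtain ⟨z, hz⟩ := IsPGroup.iff_card.1 hZp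
    -- complements of `Z` in preimages of subgroups of order prime to `p`
    have hcompl : ∀ H : Subgroup (G ⧸ Z), ¬ p ∣ Nat.card ↥H →
        ∃ A : Subgroup G, A ≤ H.comap (QuotientGroup.mk' Z) ∧ ¬ p ∣ Nat.card ↥A ∧
          Nat.card ↥A = Nat.card ↥H ∧ H.comap (QuotientGroup.mk' Z) = Z ⊔ A := by
      intro H hH
      set M := H.comap (QuotientGroup.mk' Z) with hM
      have hZM : Z ≤ M := QuotientGroup.le_comap_mk' Z H
      have hcard : Nat.card ↥M = Nat.card ↥Z * Nat.card ↥H := QuotientGroup.card_preimage_mk Z (H : Set (G ⧸ Z))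
      have hidx : (Z.subgroupOf M).index = Nat.card ↥H := by
        have e := Subgroup.card_mul_index (Z.subgroupOf M)
        rw [Nat.card_congr (Subgroup.subgroupOfEquivOfLe hZM).toEquiv, hcard] at e
        exact Nat.eq_of_mul_eq_mul_left Nat.card_pos e
      obtain ⟨A, hA⟩ := Subgroup.exists_right_complement'_of_coprime (N := Z.subgroupOf M) (by
        rw [hidx, Nat.card_congr (Subgroup.subgroupOfEquivOfLe hZM).toEquiv, hz]
        exact Nat.Coprime.pow_left z (hp.coprime_iff_not_dvd.2 hH))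
      have hAc : Nat.card ↥(A.map M.subtype) = Nat.card ↥H := by
        rw [Subgroup.card_subtype, ← hidx, hA.symm.index_eq_card]
      refine ⟨A.map M.subtype, Subgroup.map_subtype_le A, hAc ▸ hH, hAc, ?_⟩
      have e := congrArg (Subgroup.map M.subtype) hA.sup_eq_top
      rw [Subgroup.map_sup, Subgroup.map_subgroupOf_eq_of_le hZM, ← MonoidHom.range_eq_map,
        Subgroup.range_subtype] at e
      exact e.symm
    have hHQ : Hyp (G ⧸ Z) p := by
      refine ⟨fun Q => ?_, fun H hH a ha b hb => ?_⟩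
      · obtain ⟨R, rfl⟩ := Sylow.mapSurjective_surjective (QuotientGroup.mk'_surjective Z) p Q
        have := h.cyc R
        exact isCyclic_of_surjective ((QuotientGroup.mk' Z).subgroupMap (R : Subgroup G))
          (MonoidHom.subgroupMap_surjective _ _)
      · obtain ⟨A, -, hAp, -, hsup⟩ := hcompl H hH
        have hmap : H = A.map (QuotientGroup.mk' Z) := by
          have e := congrArg (Subgroup.map (QuotientGroup.mk' Z)) hsup
          rwa [Subgroup.map_comap_eq_self_of_surjective (QuotientGroup.mk'_surjective Z), Subgroup.map_sup,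
            (Subgroup.map_eq_bot_iff _).2 (QuotientGroup.ker_mk' Z).ge, bot_sup_eq] at e
        rw [hmap] at ha hb
        obtain ⟨a, ha, rfl⟩ := ha
        obtain ⟨b, hb, rfl⟩ := hb
        rw [← map_mul, ← map_mul, h.ab A hAp a ha b hb]
    rcases hIH _ hlt hHQ with hq | hq
    swap
    · refine hP₀ ?_
      have := (hq (P₀.mapSurjective (QuotientGroup.mk'_surjective Z))).comap (QuotientGroup.mk' Z)
      rwa [Sylow.coe_mapSurjective, Subgroup.comap_map_eq, QuotientGroup.ker_mk',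
        sup_eq_left.2 (CfsgLib.PLocal.pCore_le_sylow P₀)] at this
    obtain ⟨Q, N, hNn, hNQ⟩ := hq
    obtain ⟨A, hAM, hAp, hAc, hsup⟩ := hcompl N (CfsgLib.Transfer.not_dvd_card_of_isComplement' hNQ)
    set M := N.comap (QuotientGroup.mk' Z) with hM
    have hMn : M.Normal := hNn.comap _
    have hZM : Z ≤ M := QuotientGroup.le_comap_mk' Z N
    by_cases hall : ∀ a ∈ A, ∀ x ∈ Z, a * x = x * a
    · -- then `A` is normal, hence trivial
      have hchar : ∀ g ∈ M, ¬ p ∣ orderOf g → g ∈ A := by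
        intro g hg hgp
        rw [hsup, ← SetLike.mem_coe, Subgroup.normal_mul] at hg
        obtain ⟨x, hx, a, ha, rfl⟩ := hg
        obtain ⟨j, hj⟩ := PEl.of_mem hZp (show x ∈ Z from hx)
        have hcx : Commute x a := (hall a ha x hx).symm
        have hao : ¬ p ∣ orderOf a := fun hd => hAp (hd.trans (Subgroup.orderOf_dvd_natCard A ha))
        rw [hcx.orderOf_mul_eq_mul_orderOf_of_coprime (hj ▸ Nat.Coprime.pow_left j (hp.coprime_iff_not_dvd.2 hao)), hj] at hgp
        have : x = 1 := orderOf_eq_one_iff.1 (by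
          rcases Nat.eq_zero_or_pos j with h0 | h0
          · rw [hj, h0, pow_zero]
          · exact absurd (dvd_mul_of_dvd_left (dvd_pow_self p h0.ne') _) hgp)
        simpa [this] using ha
      have hAn : A.Normal := ⟨fun a ha g => hchar _ (hMn.conj_mem a (hAM ha) g) (by
        have hao : ¬ p ∣ orderOf a := fun hd => hAp (hd.trans (Subgroup.orderOf_dvd_natCard A ha))
        rwa [show orderOf (g * a * g⁻¹) = orderOf a from
          orderOf_injective (MulAut.conj g).toMonoidHom (MulAut.conj g).injective a])⟩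
      have hA1 : A = ⊥ := le_bot_iff.1 (hK ▸ CfsgLib.PLocal.le_pPrimeCore (CfsgLib.PLocal.not_dvd_iff_coprime.2 hAp))
      obtain ⟨k, hk⟩ := IsPGroup.iff_card.1 Q.isPGroup'
      have hN1 : Nat.card ↥N = 1 := by rw [← hAc, hA1, Subgroup.card_bot]
      have hG : IsPGroup p G := IsPGroup.of_card (n := k + z) (by
        rw [Subgroup.card_eq_card_quotient_mul_card_subgroup Z, ← hNQ.card_mul, hN1, one_mul, hk, hz, pow_add])
      refine hP₀ ?_
      have : (P₀ : Subgroup G) = ⊤ := (P₀.is_maximal' (hG.to_subgroup ⊤) le_top).symm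
      rw [this]
      infer_instance
    push Not at hall
    obtain ⟨a, ha, x₁, hx₁, hax⟩ := hall
    have hao : ¬ p ∣ orderOf a := fun hd => hAp (hd.trans (Subgroup.orderOf_dvd_natCard A ha))
    obtain ⟨hfix, -⟩ := (act_cases hZp (h.isCyclic hZp) hao
      (by rw [Subgroup.normalizer_eq_top_iff.2 inferInstance]; trivial)).resolve_left (fun hall => hax (hall x₁ hx₁))
    set NA := Subgroup.normalizer (A : Set G) with hNA
    -- Frattini argument
    have htop : ∀ g : G, ∃ x ∈ Z, x * g ∈ NA := by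
      intro g
      set B := A.map (MulAut.conj g).toMonoidHom with hB
      have hBM : B ≤ M := by
        rintro _ ⟨b, hb, rfl⟩
        exact hMn.conj_mem b (hAM hb) g
      have hBc : Nat.card ↥B = Nat.card ↥A :=
        (Nat.card_congr (A.equivMapOfInjective _ (MulAut.conj g).injective).toEquiv).symm
      have hidx : (Z.subgroupOf M).index = Nat.card ↥A := by
        have e := Subgroup.card_mul_index (Z.subgroupOf M)
        rw [Nat.card_congr (Subgroup.subgroupOfEquivOfLe hZM).toEquiv,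
          show Nat.card ↥M = Nat.card ↥Z * Nat.card ↥A by
            rw [hAc]; exact QuotientGroup.card_preimage_mk Z (N : Set (G ⧸ Z))] at e
        exact Nat.eq_of_mul_eq_mul_left Nat.card_pos e
      have : (Z.subgroupOf M).Normal := Subgroup.normal_subgroupOf
      have hZs : Group.IsSolvable ↥(Z.subgroupOf M) := by
        have hZs' : IsPGroup p ↥(Z.subgroupOf M) := hZp.comap_subtype
        have := hZs'.isNilpotent
        infer_instance
      obtain ⟨m, hm, hmB⟩ := CfsgLib.Solvable.exists_conj_eq_of_card (N := Z.subgroupOf M)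
        (H := B.subgroupOf M) (K := A.subgroupOf M)
        (by rw [hidx, Nat.card_congr (Subgroup.subgroupOfEquivOfLe hZM).toEquiv, hz]
            exact Nat.Coprime.pow_left z (hp.coprime_iff_not_dvd.2 hAp))
        (by rw [hidx, Nat.card_congr (Subgroup.subgroupOfEquivOfLe hBM).toEquiv, hBc])
        (by rw [hidx, Nat.card_congr (Subgroup.subgroupOfEquivOfLe hAM).toEquiv]) (Or.inl hZs)
      refine ⟨(m : G), hm, ?_⟩
      have key : ∀ b ∈ A, (m : G) * g * b * ((m : G) * g)⁻¹ ∈ A := by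
        intro b hb
        have h1 : (⟨g * b * g⁻¹, hBM ⟨b, hb, rfl⟩⟩ : ↥M) ∈ B.subgroupOf M := ⟨b, hb, rfl⟩
        have h2 := Subgroup.smul_mem_pointwise_smul _ (MulAut.conj m) _ h1
        rw [hmB] at h2
        simpa [Subgroup.mem_subgroupOf, MulAut.smul_def, mul_assoc] using h2
      rw [hNA, Subgroup.mem_normalizer_iff]
      intro b
      refine ⟨key b, fun hb => ?_⟩
      set S := A.map (MulAut.conj ((m : G) * g)).toMonoidHom
      have hSA : S = A := Subgroup.eq_of_le_of_card_ge (by rintro _ ⟨c, hc, rfl⟩; exact key c hc)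
        (le_of_eq (Nat.card_congr (A.equivMapOfInjective _ (MulAut.conj _).injective).toEquiv))
      have hb' : (MulAut.conj ((m : G) * g)) b ∈ S := by rw [hSA]; exact hb
      obtain ⟨c, hc, hce⟩ := hb'
      exact (MulAut.conj ((m : G) * g)).injective hce ▸ hc
    have hNZ : ∀ x ∈ Z, x ∈ NA → x = 1 := by
      intro x hx hxN
      refine hfix x hx ?_
      have h1 : x * a * x⁻¹ * a⁻¹ ∈ A := A.mul_mem ((Subgroup.mem_normalizer_iff.1 hxN a).1 ha) (A.inv_mem ha)
      have h2 : x * a * x⁻¹ * a⁻¹ ∈ Z := by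
        rw [show x * a * x⁻¹ * a⁻¹ = x * (a * x⁻¹ * a⁻¹) by group]
        exact Z.mul_mem hx ((inferInstance : Z.Normal).conj_mem _ (Z.inv_mem hx) a)
      obtain ⟨j, hj⟩ := PEl.of_mem hZp h2
      have h3 : x * a * x⁻¹ * a⁻¹ = 1 := orderOf_eq_one_iff.1 (Nat.eq_one_of_dvd_coprimes
        (Nat.Coprime.pow_left j (hp.coprime_iff_not_dvd.2 hAp)) (hj ▸ dvd_rfl) (Subgroup.orderOf_dvd_natCard A h1))
      exact (mul_inv_eq_iff_eq_mul.1 (mul_inv_eq_one.1 h3)).symm
    -- the Sylow subgroup of `N(A)` is trivial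
    obtain ⟨S⟩ : Nonempty (Sylow p ↥NA) := inferInstance
    obtain ⟨P₁, hP₁⟩ := (S.isPGroup'.map NA.subtype).exists_le_sylow
    have hZP₁ : Z ≤ P₁ := CfsgLib.PLocal.pCore_le_sylow P₁
    have hS : (S : Subgroup ↥NA) = ⊥ := by
      by_contra hne'
      obtain ⟨s, hs, hs1⟩ := (Subgroup.bot_or_exists_ne_one _).resolve_left hne'
      obtain ⟨y, hy, hy1⟩ := (Subgroup.bot_or_exists_ne_one _).resolve_left hne
      obtain ⟨ks, hks⟩ := PEl.of_mem P₁.isPGroup' (hP₁ ⟨s, hs, rfl⟩)
      obtain ⟨ky, hky⟩ := PEl.of_mem hZp hy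
      have hks0 : ks ≠ 0 := fun h0 => hs1 (Subtype.ext (orderOf_eq_one_iff.1 (by
        rw [show orderOf (s : G) = p ^ ks from hks, h0, pow_zero])))
      have hky0 : ky ≠ 0 := fun h0 => hy1 (orderOf_eq_one_iff.1 (by rw [hky, h0, pow_zero]))
      set s' := (s : G) ^ p ^ (ks - 1)
      set y' := y ^ p ^ (ky - 1)
      have ho : ∀ (w : G) (k : ℕ), k ≠ 0 → orderOf w = p ^ k → orderOf (w ^ p ^ (k - 1)) = p := by
        intro w k hk0 hk
        rw [orderOf_pow' _ (pow_ne_zero _ hp.ne_zero), hk, Nat.gcd_eq_right (pow_dvd_pow p (Nat.sub_le k 1)),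
          Nat.pow_div (Nat.sub_le k 1) hp.pos, show k - (k - 1) = 1 by omega, pow_one]
      have hso : orderOf s' = p := ho _ ks hks0 hks
      have hyo : orderOf y' = p := ho _ ky hky0 hky
      have hsP : s' ∈ (P₁ : Subgroup G) := Subgroup.pow_mem _ (hP₁ ⟨s, hs, rfl⟩) _
      have hyP : y' ∈ (P₁ : Subgroup G) := Subgroup.pow_mem _ (hZP₁ hy) _
      have := h.cyc P₁
      have e : Subgroup.zpowers (⟨s', hsP⟩ : ↥(P₁ : Subgroup G)) = Subgroup.zpowers ⟨y', hyP⟩ :=
        CfsgLib.CharactersDeep.QuaternionSylow.eq_of_card_eq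
          (by rw [Nat.card_zpowers, Nat.card_zpowers, Subgroup.orderOf_mk, Subgroup.orderOf_mk, hso, hyo])
      obtain ⟨i, hi⟩ := Subgroup.mem_zpowers_iff.1 (e ▸ Subgroup.mem_zpowers (⟨s', hsP⟩ : ↥(P₁ : Subgroup G)))
      have hi' : y' ^ i = s' := congrArg Subtype.val hi
      have := hNZ s' (hi' ▸ Z.zpow_mem (Z.pow_mem hy _) i) (Subgroup.pow_mem _ s.2 _)
      rw [this, orderOf_one] at hso
      exact hp.one_lt.ne hso
    have hpNA : ¬ p ∣ Nat.card ↥NA := by
      intro hd
      have := S.dvd_card_of_dvd_card hd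
      rw [hS, Subgroup.card_bot] at this
      exact hp.not_dvd_one this
    have htop' : NA ⊔ Z = ⊤ := by
      refine (Subgroup.eq_top_iff' _).2 fun g => ?_
      obtain ⟨x, hx, hxg⟩ := htop g
      rw [show g = x⁻¹ * (x * g) by group]
      exact Subgroup.mul_mem _ (Subgroup.mem_sup_right (Z.inv_mem hx)) (Subgroup.mem_sup_left hxg)
    have hd := CfsgLib.PLocal.card_sup_dvd_mul NA Z
    rw [htop', Subgroup.card_top] at hd
    refine hP₀ ?_
    have hPZ : (P₀ : Subgroup G) = Z := (Subgroup.eq_of_le_of_card_ge (CfsgLib.PLocal.pCore_le_sylow P₀) (by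
      obtain ⟨k, hk⟩ := IsPGroup.iff_card.1 P₀.isPGroup'
      have h1 : p ^ k ∣ Nat.card ↥NA * p ^ z := hz ▸ (hk ▸ (Subgroup.card_subgroup_dvd_card _)).trans hd
      rw [hz, hk]
      exact Nat.le_of_dvd (pow_pos hp.pos _)
        ((Nat.Coprime.pow_left k (hp.coprime_iff_not_dvd.2 hpNA)).dvd_of_dvd_mul_left h1))).symm
    rw [hPZ]
    infer_instance
  -- the group is simple
  have hsimple : ∀ N : Subgroup G, N.Normal → N = ⊥ ∨ N = ⊤ := by
    intro N hN
    by_contra hc
    push Not at hc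
    obtain ⟨hN1, hN2⟩ := hc
    have hlt : Nat.card ↥N < n := by
      rw [← hn]
      exact lt_of_le_of_ne (Subgroup.card_le_card_group N) fun e => hN2 ((Subgroup.card_eq_iff_eq_top N).1 e)
    rcases hIH _ hlt (h.subgroup N) with hq | hq
    · obtain ⟨Q, K, hKn, hKQ⟩ := hq
      have hKe := CfsgLib.Transfer.eq_pResidual_of_isComplement' hKQ
      have hKp := CfsgLib.Transfer.not_dvd_card_of_isComplement' hKQ
      have h1 : (pPrimeCore p ↥N) = ⊥ := by
        have := CfsgLib.PLocal.pPrimeCore_map_subtype_le (p := p) N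
        rwa [hK, le_bot_iff, Subgroup.map_eq_bot_iff, Subgroup.ker_subtype, le_bot_iff] at this
      have hK1 : K = ⊥ := le_bot_iff.1 (h1 ▸ CfsgLib.PLocal.le_pPrimeCore (CfsgLib.PLocal.not_dvd_iff_coprime.2 hKp))
      have hNp : IsPGroup p ↥N := by
        obtain ⟨k, hk⟩ := IsPGroup.iff_card.1 Q.isPGroup'
        exact IsPGroup.of_card (n := k) (by rw [← hKQ.card_mul, hK1, Subgroup.card_bot, one_mul, hk])
      exact hN1 (le_bot_iff.1 (hZ ▸ CfsgLib.PLocal.le_pCore hNp))
    · obtain ⟨Q⟩ : Nonempty (Sylow p ↥N) := inferInstance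
      have := hq Q
      have hchar := Sylow.characteristic_of_normal Q this
      have : ((Q : Subgroup ↥N).map N.subtype).Normal := CfsgLib.PLocal.normal_map_subtype N _
      have hQ1 : (Q : Subgroup ↥N).map N.subtype = ⊥ :=
        le_bot_iff.1 (hZ ▸ CfsgLib.PLocal.le_pCore (Q.isPGroup'.map _))
      rw [Subgroup.map_eq_bot_iff, Subgroup.ker_subtype, le_bot_iff] at hQ1
      have hNp : ¬ p ∣ Nat.card ↥N := fun hd => by
        have := Q.dvd_card_of_dvd_card hd
        rw [hQ1, Subgroup.card_bot] at this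
        exact hp.not_dvd_one this
      exact hN1 (le_bot_iff.1 (hK ▸ CfsgLib.PLocal.le_pPrimeCore (CfsgLib.PLocal.not_dvd_iff_coprime.2 hNp)))
  refine hno G hn.le ⟨h, hsimple, ?_, hpG, fun K hK' => hIH _ ?_ (h.subgroup K), hnc⟩
  · by_contra hab
    push Not at hab
    exact hP₀ ⟨fun x hx g => by rw [hab g x, mul_inv_cancel_right]; exact hx⟩
  · rw [← hn]
    exact lt_of_le_of_ne (Subgroup.card_le_card_group K) fun e => hK' ((Subgroup.card_eq_iff_eq_top K).1 e)

end CfsgLib.FgsSix.CyclicAbelian
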