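import Mathlib
import Cfsg.Agent.FgsSix.CyclicAbelian.Basic
import Cfsg.Agent.FgsSix.Windmill
import Cfsg.Agent.Characters.CACount

/-!
# Cyclic Sylow subgroup and abelian subgroups of order prime to `p`: the simple configuration
-/

namespace CfsgLib.FgsSix.CyclicAbelian

open Cfsg (HasNormalPComplement)
open MixedOrder (PEl)

namespace CConf

variable {G : Type*} [Group G] [Finite G] {p : ℕ} [Fact p.Prime] (C : CConf G p)

theorem pel_part (g : G) : PEl p (g ^ (orderOf g / p ^ (orderOf g).factorization p)) := by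
  have hpos := (orderOf_pos g).ne'
  refine ⟨(orderOf g).factorization p, ?_⟩
  rw [orderOf_pow' _ (Nat.ordCompl_pos p hpos).ne', Nat.gcd_eq_right (Nat.div_dvd_of_dvd (Nat.ordProj_dvd _ p)),
    Nat.div_div_self (Nat.ordProj_dvd _ p) hpos]

theorem prime_part (g : G) : ¬ p ∣ orderOf (g ^ p ^ (orderOf g).factorization p) := by
  rw [orderOf_pow' _ (pow_ne_zero _ (Fact.out : p.Prime).ne_zero), Nat.gcd_eq_right (Nat.ordProj_dvd _ p)]
  exact Nat.not_dvd_ordCompl Fact.out (orderOf_pos g).ne'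

theorem coprime_parts (g : G) :
    (p ^ (orderOf g).factorization p).Coprime (orderOf g / p ^ (orderOf g).factorization p) :=
  Nat.Coprime.pow_left _ ((Fact.out : p.Prime).coprime_iff_not_dvd.2
    (Nat.not_dvd_ordCompl Fact.out (orderOf_pos g).ne'))

theorem eq_one_of_pel {x : G} (hx : PEl p x) (hx' : ¬ p ∣ orderOf x) : x = 1 := by
  obtain ⟨k, hk⟩ := hx
  exact orderOf_eq_one_iff.1 (Nat.eq_one_of_dvd_coprimes
    (Nat.Coprime.pow_left k ((Fact.out : p.Prime).coprime_iff_not_dvd.2 hx')) (hk ▸ dvd_rfl) dvd_rfl)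

/-- An element of a `p`-group and of a normalized `p'`-group commute. -/
theorem commute_of_disjoint {P R : Subgroup G} (hP : IsPGroup p ↥P) (hR : ¬ p ∣ Nat.card ↥R) {x g : G}
    (hx : x ∈ P) (hxN : x ∈ Subgroup.normalizer (R : Set G)) (hg : g ∈ R)
    (hgN : g ∈ Subgroup.normalizer (P : Set G)) : x * g = g * x := by
  have h1 : x * g * x⁻¹ * g⁻¹ ∈ R :=
    R.mul_mem ((Subgroup.mem_normalizer_iff.1 hxN g).1 hg) (R.inv_mem hg)
  have h2 : x * g * x⁻¹ * g⁻¹ ∈ P := by
    rw [show x * g * x⁻¹ * g⁻¹ = x * (g * x⁻¹ * g⁻¹) by group]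
    exact P.mul_mem hx ((Subgroup.mem_normalizer_iff.1 hgN _).1 (P.inv_mem hx))
  have h3 := eq_one_of_pel (PEl.of_mem hP h2) (fun h => hR (h.trans (Subgroup.orderOf_dvd_natCard R h1)))
  exact mul_inv_eq_iff_eq_mul.1 (mul_inv_eq_one.1 h3)

theorem sylow_eq_of_le (P P₂ : Sylow p G)
    (h : (P₂ : Subgroup G) ≤ Subgroup.normalizer ((P : Subgroup G) : Set G)) : P₂ = P :=
  Sylow.ext (Subgroup.eq_of_le_of_card_ge (MixedOrder.le_sylow_of_le_normalizer P P₂.isPGroup' h)
    (le_of_eq (P.card_eq_multiplicity.trans P₂.card_eq_multiplicity.symm)))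

include C

theorem centralizer_ne_top {g : G} (hg : g ≠ 1) : Subgroup.centralizer ({g} : Set G) ≠ ⊤ := by
  intro h
  have hmem : g ∈ Subgroup.center G := by
    rw [Subgroup.mem_center_iff]
    intro a
    exact Subgroup.mem_centralizer_singleton_iff.1 (h ▸ Subgroup.mem_top a)
  rcases C.simple _ (inferInstance : (Subgroup.center G).Normal) with hc | hc
  · rw [hc, Subgroup.mem_bot] at hmem
    exact hg hmem
  · obtain ⟨a, b, hab⟩ := C.nab
    exact hab (Subgroup.mem_center_iff.1 (hc ▸ Subgroup.mem_top b) a)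

theorem normalizer_ne_top {g : G} (hg : g ≠ 1) :
    Subgroup.normalizer ((Subgroup.zpowers g : Subgroup G) : Set G) ≠ ⊤ := by
  intro h
  rcases C.simple _ (Subgroup.normalizer_eq_top_iff.1 h) with hc | hc
  · exact hg (Subgroup.zpowers_eq_bot.1 hc)
  · obtain ⟨a, b, hab⟩ := C.nab
    obtain ⟨i, rfl⟩ := Subgroup.mem_zpowers_iff.1 (hc ▸ Subgroup.mem_top a)
    obtain ⟨j, rfl⟩ := Subgroup.mem_zpowers_iff.1 (hc ▸ Subgroup.mem_top b)
    exact hab ((Commute.refl g).zpow_zpow i j).eq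

theorem exists_actor (P : Sylow p G) : ∃ a, ¬ p ∣ orderOf a ∧
    a ∈ Subgroup.normalizer ((P : Subgroup G) : Set G) ∧ ∃ x ∈ (P : Subgroup G), a * x ≠ x * a := by
  by_contra hcon
  push Not at hcon
  exact C.not_concl (C.hyp.hasNormalPComplement_of_local P hcon)

theorem act_fpf {P : Sylow p G} {a : G} (ha : ¬ p ∣ orderOf a)
    (haN : a ∈ Subgroup.normalizer ((P : Subgroup G) : Set G)) {z : G} (hz : z ∈ (P : Subgroup G))
    (hz1 : z ≠ 1) (haz : a * z = z * a) : ∀ x ∈ (P : Subgroup G), a * x = x * a := by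
  rcases act_cases P.isPGroup' (C.hyp.cyc P) ha haN with h | ⟨h, -⟩
  · exact h
  · exact absurd (h z hz haz) hz1

theorem p_ne_two : p ≠ 2 := by
  rintro rfl
  obtain ⟨P⟩ : Nonempty (Sylow 2 G) := inferInstance
  obtain ⟨a, ha, haN, x, hx, hax⟩ := C.exists_actor P
  obtain ⟨z, hz⟩ := exists_prime_orderOf_dvd_card' (G := ↥(P : Subgroup G)) 2 (P.dvd_card_of_dvd_card C.dvd)
  have hz' : a * (z : G) * a⁻¹ ∈ (P : Subgroup G) := (Subgroup.mem_normalizer_iff.1 haN z).1 z.2
  have := C.hyp.cyc P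
  have e : Subgroup.zpowers z = Subgroup.zpowers (⟨_, hz'⟩ : ↥(P : Subgroup G)) :=
    CfsgLib.CharactersDeep.QuaternionSylow.eq_of_card_eq (by
      rw [Nat.card_zpowers, Nat.card_zpowers, ← Subgroup.orderOf_coe, ← Subgroup.orderOf_coe]
      exact (orderOf_injective (MulAut.conj a).toMonoidHom (MulAut.conj a).injective (z : G)).symm)
  obtain ⟨i, hi⟩ := Subgroup.mem_zpowers_iff.1 (e.symm ▸ Subgroup.mem_zpowers (⟨_, hz'⟩ : ↥(P : Subgroup G)) :
    (⟨_, hz'⟩ : ↥(P : Subgroup G)) ∈ Subgroup.zpowers z)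
  have hfix : a * (z : G) * a⁻¹ = z := by
    have h1 : (z : G) ^ i = a * (z : G) * a⁻¹ := congrArg Subtype.val hi
    have hzz : (z : G) ^ (2 : ℤ) = 1 := by
      rw [zpow_ofNat]
      exact orderOf_dvd_iff_pow_eq_one.1 (by rw [Subgroup.orderOf_coe, hz])
    rcases Int.even_or_odd' i with ⟨k, rfl | rfl⟩
    · exfalso
      rw [zpow_mul, hzz, one_zpow] at h1
      have hz1 : (z : G) = 1 := by
        have := congrArg (fun v => a⁻¹ * v * a) h1
        simpa [mul_assoc] using this.symm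
      rw [← Subgroup.orderOf_coe, hz1, orderOf_one] at hz
      omega
    · rw [← h1, zpow_add_one, zpow_mul, hzz, one_zpow, one_mul]
  refine hax (C.act_fpf ha haN z.2 (fun h => ?_) (mul_inv_eq_iff_eq_mul.1 hfix) x hx)
  rw [← Subgroup.orderOf_coe, h, orderOf_one] at hz
  omega

/-- A proper subgroup containing `P` and an element acting nontrivially on it normalizes `P`. -/
theorem le_normalizer {K : Subgroup G} (hK : K ≠ ⊤) {P : Sylow p G} (hPK : (P : Subgroup G) ≤ K) {a : G}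
    (haK : a ∈ K) (ha : ¬ p ∣ orderOf a) (haN : a ∈ Subgroup.normalizer ((P : Subgroup G) : Set G))
    (hne : ∃ x ∈ (P : Subgroup G), a * x ≠ x * a) :
    K ≤ Subgroup.normalizer ((P : Subgroup G) : Set G) := by
  have hp : p.Prime := Fact.out
  rcases C.concl K hK with h | h
  · exfalso
    obtain ⟨x, hx, hax⟩ := hne
    have ha' : (⟨a, haK⟩ : ↥K) ∈ Cfsg.pResidual p ↥K :=
      (CfsgLib.Transfer.mem_pResidual_iff h).2 (by
        rw [Subgroup.orderOf_mk]; exact (hp.coprime_iff_not_dvd.2 ha).symm)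
    set xK : ↥K := ⟨x, hPK hx⟩
    have hmem : (⟨a, haK⟩ : ↥K) * xK * (⟨a, haK⟩ : ↥K)⁻¹ * xK⁻¹ ∈ Cfsg.pResidual p ↥K := by
      rw [show (⟨a, haK⟩ : ↥K) * xK * (⟨a, haK⟩ : ↥K)⁻¹ * xK⁻¹ = ⟨a, haK⟩ * (xK * (⟨a, haK⟩ : ↥K)⁻¹ * xK⁻¹) by group]
      exact Subgroup.mul_mem _ ha' ((inferInstance : (Cfsg.pResidual p ↥K).Normal).conj_mem _ (Subgroup.inv_mem _ ha') _)
    have hco := (CfsgLib.Transfer.mem_pResidual_iff h).1 hmem
    rw [← Subgroup.orderOf_coe] at hco
    have hP : a * x * a⁻¹ * x⁻¹ ∈ (P : Subgroup G) :=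
      Subgroup.mul_mem _ ((Subgroup.mem_normalizer_iff.1 haN x).1 hx) (Subgroup.inv_mem _ hx)
    have h1 := eq_one_of_pel (PEl.of_mem P.isPGroup' hP) (hp.coprime_iff_not_dvd.1 hco.symm)
    exact hax (mul_inv_eq_iff_eq_mul.1 (mul_inv_eq_one.1 h1))
  · intro k hk
    have hn := h (P.subtype hPK)
    rw [Subgroup.mem_normalizer_iff]
    intro g
    constructor
    · intro hg
      exact hn.conj_mem ⟨g, hPK hg⟩ hg ⟨k, hk⟩
    · intro hg
      have h2 := hn.conj_mem ⟨k * g * k⁻¹, hPK hg⟩ hg ⟨k, hk⟩⁻¹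
      change k⁻¹ * (k * g * k⁻¹) * k⁻¹⁻¹ ∈ (P : Subgroup G) at h2
      simpa [mul_assoc] using h2

/-- The normalizer of a nontrivial `p`-subgroup lies in that of the Sylow subgroup containing it. -/
theorem normalizer_zpowers_le {P : Sylow p G} {x : G} (hx : x ∈ (P : Subgroup G)) (hx1 : x ≠ 1) :
    Subgroup.normalizer ((Subgroup.zpowers x : Subgroup G) : Set G) ≤
      Subgroup.normalizer ((P : Subgroup G) : Set G) := by
  obtain ⟨a, ha, haN, hne⟩ := C.exists_actor P
  refine C.le_normalizer (C.normalizer_ne_top hx1) ?_ ?_ ha haN hne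
  · intro g hg
    refine Subgroup.centralizer_le_normalizer _ fun v hv => ?_
    exact (C.hyp.abelian P.isPGroup' g hg v (Subgroup.zpowers_le.2 hx hv)).symm
  · have hz' : a * x * a⁻¹ ∈ (P : Subgroup G) := (Subgroup.mem_normalizer_iff.1 haN x).1 hx
    have := C.hyp.cyc P
    have e : Subgroup.zpowers (⟨x, hx⟩ : ↥(P : Subgroup G)) = Subgroup.zpowers ⟨_, hz'⟩ :=
      CfsgLib.CharactersDeep.QuaternionSylow.eq_of_card_eq (by
        rw [Nat.card_zpowers, Nat.card_zpowers, Subgroup.orderOf_mk, Subgroup.orderOf_mk]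
        exact (orderOf_injective (MulAut.conj a).toMonoidHom (MulAut.conj a).injective x).symm)
    have e2 : Subgroup.zpowers (a * x * a⁻¹) = Subgroup.zpowers x := by
      have := congrArg (Subgroup.map (P : Subgroup G).subtype) e
      rw [MonoidHom.map_zpowers, MonoidHom.map_zpowers] at this
      exact this.symm
    rw [Subgroup.mem_normalizer_iff]
    intro u
    have hmap : (Subgroup.zpowers x).map (MulAut.conj a).toMonoidHom = Subgroup.zpowers x := by
      rw [MonoidHom.map_zpowers]; exact e2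
    constructor
    · intro hu
      exact hmap ▸ ⟨u, hu, rfl⟩
    · intro hu
      rw [← hmap] at hu
      obtain ⟨v, hv, hve⟩ := hu
      exact (MulAut.conj a).injective hve ▸ hv

theorem centralizer_le {P : Sylow p G} {x : G} (hx : x ∈ (P : Subgroup G)) (hx1 : x ≠ 1) :
    Subgroup.centralizer ({x} : Set G) ≤ Subgroup.normalizer ((P : Subgroup G) : Set G) := by
  refine le_trans (fun g hg => Subgroup.centralizer_le_normalizer _ fun v hv => ?_) (C.normalizer_zpowers_le hx hx1)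
  obtain ⟨i, rfl⟩ := Subgroup.mem_zpowers_iff.1 hv
  exact ((show Commute x g from (Subgroup.mem_centralizer_singleton_iff.1 hg).symm).zpow_left i).eq

theorem sylow_unique {P P₂ : Sylow p G} {x : G} (hx : x ∈ (P : Subgroup G)) (hx1 : x ≠ 1)
    (hx2 : x ∈ (P₂ : Subgroup G)) : P₂ = P :=
  sylow_eq_of_le P P₂ (le_trans (fun g hg => Subgroup.mem_centralizer_singleton_iff.2
    (C.hyp.abelian P₂.isPGroup' g hg x hx2)) (C.centralizer_le hx hx1))

/-- The centralizer of a `p'`-element centralizing `P` normalizes `P`. -/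
theorem centralizer_le_of_centralizes {P : Sylow p G} {c : G} (hc : ¬ p ∣ orderOf c) (hc1 : c ≠ 1)
    (hcP : ∀ x ∈ (P : Subgroup G), c * x = x * c) :
    Subgroup.centralizer ({c} : Set G) ≤ Subgroup.normalizer ((P : Subgroup G) : Set G) := by
  have hp : p.Prime := Fact.out
  set N := Subgroup.normalizer ((P : Subgroup G) : Set G) with hN
  have hPN : (P : Subgroup G) ≤ N := Subgroup.le_normalizer
  have : ((P : Subgroup G).subgroupOf N).Normal := Subgroup.normal_in_normalizer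
  obtain ⟨A, hA⟩ := Subgroup.exists_right_complement'_of_coprime (N := (P : Subgroup G).subgroupOf N) (by
    obtain ⟨k, hk⟩ := IsPGroup.iff_card.1 P.isPGroup'
    rw [Nat.card_congr (Subgroup.subgroupOfEquivOfLe hPN).toEquiv, hk]
    exact Nat.Coprime.pow_left k (hp.coprime_iff_not_dvd.2 (P.subtype hPN).not_dvd_index))
  have hAp : ¬ p ∣ Nat.card ↥(A.map N.subtype) := by
    rw [Subgroup.card_subtype, ← hA.symm.index_eq_card]
    exact (P.subtype hPN).not_dvd_index
  have hdec : ∀ g ∈ N, ∃ y ∈ (P : Subgroup G), ∃ a ∈ A.map N.subtype, g = y * a := by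
    intro g hg
    obtain ⟨⟨⟨y, hy⟩, ⟨a, ha⟩⟩, h⟩ := hA.2 ⟨g, hg⟩
    exact ⟨(y : G), hy, (a : G), ⟨a, ha, rfl⟩, congrArg Subtype.val h.symm⟩
  have hcN : c ∈ N := Subgroup.centralizer_le_normalizer _ fun x hx => (hcP x hx).symm
  obtain ⟨y, hy, a', ha', hcy⟩ := hdec c hcN
  have hy1 : y = 1 := by
    have hcomm : Commute y⁻¹ c := ((show Commute c y from hcP y hy).symm).inv_left
    have ha'e : a' = y⁻¹ * c := by rw [hcy]; group
    have h1 : (y⁻¹) ^ orderOf c ∈ A.map N.subtype := by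
      have : a' ^ orderOf c = (y⁻¹) ^ orderOf c := by rw [ha'e, hcomm.mul_pow, pow_orderOf_eq_one, mul_one]
      exact this ▸ Subgroup.pow_mem _ ha' _
    have h2 := eq_one_of_pel (PEl.of_mem P.isPGroup' (Subgroup.pow_mem _ (Subgroup.inv_mem _ hy) (orderOf c)))
      (fun h => hAp (h.trans (Subgroup.orderOf_dvd_natCard _ h1)))
    have h3 := orderOf_dvd_of_pow_eq_one h2
    rw [orderOf_inv] at h3
    exact eq_one_of_pel (PEl.of_mem P.isPGroup' hy) (fun h => hc (h.trans h3))
  rw [hy1, one_mul] at hcy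
  obtain ⟨b, hb, hbx⟩ : ∃ b ∈ A.map N.subtype, ∃ x ∈ (P : Subgroup G), b * x ≠ x * b := by
    by_contra hcon
    push Not at hcon
    obtain ⟨a, -, haN, x, hx, hax⟩ := C.exists_actor P
    obtain ⟨w, hw, b, hb, rfl⟩ := hdec a haN
    exact hax ((show Commute w x from C.hyp.abelian P.isPGroup' w hw x hx).mul_left (hcon b hb x hx)).eq
  refine C.le_normalizer (C.centralizer_ne_top hc1) (fun x hx => ?_) ?_
    (fun h => hAp (h.trans (Subgroup.orderOf_dvd_natCard _ hb))) ?_ hbx
  · exact Subgroup.mem_centralizer_singleton_iff.2 (hcP x hx).symm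
  · exact Subgroup.mem_centralizer_singleton_iff.2 (C.hyp.ab _ hAp b hb c (hcy ▸ ha'))
  · exact Subgroup.map_subtype_le _ hb

/-- For every prime `r ≠ p`, some `p`-element acts nontrivially on a Sylow `r`-subgroup. -/
theorem exists_acting {r : ℕ} [Fact r.Prime] (hrp : r ≠ p) (hr : r ∣ Nat.card G) (R : Sylow r G) :
    ∃ x, PEl p x ∧ x ∈ Subgroup.normalizer ((R : Subgroup G) : Set G) ∧
      ∃ v ∈ (R : Subgroup G), x * v ≠ v * x := by
  by_contra hcon
  push Not at hcon
  have hp : p.Prime := Fact.out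
  have hRp : ¬ p ∣ Nat.card ↥(R : Subgroup G) := by
    obtain ⟨k, hk⟩ := IsPGroup.iff_card.1 R.isPGroup'
    exact fun h => hrp ((Nat.prime_dvd_prime_iff_eq hp Fact.out).1 (hp.dvd_of_dvd_pow (hk ▸ h))).symm
  have hNC : Subgroup.normalizer ((R : Subgroup G) : Set G) ≤ Subgroup.centralizer ((R : Subgroup G) : Set G) := by
    intro g hg
    refine mem_of_pow_mem (coprime_parts (p := p) g) (fun v hv => ?_) (fun v hv => ?_)
    · exact C.hyp.ab _ (not_dvd_sup (not_dvd_card_zpowers (prime_part g)) hRp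
        (Subgroup.zpowers_le.2 (Subgroup.pow_mem _ hg _))) v (Subgroup.mem_sup_right hv) _
        (Subgroup.mem_sup_left (Subgroup.mem_zpowers _))
    · exact (hcon _ (pel_part g) (Subgroup.pow_mem _ hg _) v hv).symm
  have hc := MonoidHom.ker_transferSylow_isComplement' R hNC
  rcases C.simple _ (MonoidHom.normal_ker (MonoidHom.transferSylow R hNC)) with h | h
  · have h1 := hc.card_mul_card
    rw [h, Subgroup.card_bot, one_mul] at h1
    exact hRp (h1 ▸ C.dvd)
  · have h1 := hc.card_mul_card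
    rw [h, Subgroup.card_top] at h1
    have h2 : Nat.card ↥(R : Subgroup G) = 1 :=
      Nat.eq_of_mul_eq_mul_left (Nat.card_pos (α := G)) (by rw [h1, mul_one])
    have h3 := R.dvd_card_of_dvd_card hr
    rw [h2] at h3
    exact (Fact.out : r.Prime).not_dvd_one h3

theorem not_dvd_sylow {r : ℕ} [Fact r.Prime] (hrp : r ≠ p) (R : Sylow r G) :
    ¬ p ∣ Nat.card ↥(R : Subgroup G) := by
  obtain ⟨k, hk⟩ := IsPGroup.iff_card.1 R.isPGroup'
  exact fun h => hrp ((Nat.prime_dvd_prime_iff_eq Fact.out Fact.out).1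
    ((Fact.out : p.Prime).dvd_of_dvd_pow (hk ▸ h))).symm

theorem not_dvd_of_order_two {t : G} (ht : orderOf t = 2) : ¬ p ∣ orderOf t := fun h =>
  C.p_ne_two ((Nat.prime_dvd_prime_iff_eq Fact.out Nat.prime_two).1 (ht ▸ h))

theorem ne_one_of_order_two {t : G} (ht : orderOf t = 2) : t ≠ 1 := fun h => by
  rw [h, orderOf_one] at ht
  omega

/-- If `ω` in the `r`-Sylow subgroup `R` centralizes `P` and a `p`-element of `N(R)` maps it to
another such element, the `p`-element centralizes `R`. -/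
theorem key {r : ℕ} [Fact r.Prime] (hrp : r ≠ p) {R : Sylow r G} {P : Sylow p G} {ω y : G}
    (hω : ω ∈ (R : Subgroup G)) (hω1 : ω ≠ 1) (hωP : ∀ x ∈ (P : Subgroup G), ω * x = x * ω) (hy : PEl p y)
    (hyR : y ∈ Subgroup.normalizer ((R : Subgroup G) : Set G))
    (hyω : ∀ x ∈ (P : Subgroup G), y * ω * y⁻¹ * x = x * (y * ω * y⁻¹)) :
    ∀ v ∈ (R : Subgroup G), y * v = v * y := by
  have hRp := C.not_dvd_sylow hrp R
  have hord : ∀ {v : G}, v ∈ (R : Subgroup G) → ¬ p ∣ orderOf v := fun hv h =>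
    hRp (h.trans (Subgroup.orderOf_dvd_natCard _ hv))
  have hω' := (Subgroup.mem_normalizer_iff.1 hyR ω).1 hω
  have hle := C.centralizer_le_of_centralizes (hord hω') (by simpa using hω1) hyω
  have hyP : y ∈ Subgroup.normalizer ((P : Subgroup G) : Set G) := by
    refine Sylow.smul_eq_iff_mem_normalizer.1 (sylow_eq_of_le P (y • P) fun g hg => hle ?_)
    rw [MixedOrder.Conf.mem_smul_sylow] at hg
    rw [Subgroup.mem_centralizer_singleton_iff]
    have := congrArg (fun w => y * w * y⁻¹) (hωP _ hg)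
    simpa [mul_assoc] using this.symm
  have hyP' := hy.mem_sylow P hyP
  intro v hv
  refine commute_of_disjoint P.isPGroup' hRp hyP' hyR hv ?_
  exact C.centralizer_le_of_centralizes (hord hω) hω1 hωP
    (Subgroup.mem_centralizer_singleton_iff.2 (C.hyp.ab _ hRp v hv ω hω))

/-- An element of prime order `r ≠ p` centralizing a Sylow `p`-subgroup forces `r = 2`, `p = 3`, and
the involutions of a Sylow 2-subgroup containing it form a single orbit of length three. -/
theorem structure_of_centralizing {r : ℕ} [Fact r.Prime] (hrp : r ≠ p) {c : G} (hc : orderOf c = r)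
    {P : Sylow p G} (hcP : ∀ x ∈ (P : Subgroup G), c * x = x * c) (R : Sylow r G) (hcR : c ∈ (R : Subgroup G)) :
    r = 2 ∧ p = 3 ∧ ∃ x, PEl p x ∧ x ∈ Subgroup.normalizer ((R : Subgroup G) : Set G) ∧ x * c ≠ c * x ∧
      (MixedOrder.powOrbit x c).ncard = 3 ∧
      ∀ ω ∈ (R : Subgroup G), ω ^ r = 1 → ω ≠ 1 → ω ∈ MixedOrder.powOrbit x c := by
  classical
  have hp : p.Prime := Fact.out
  have hr : r.Prime := Fact.out
  have hc1 : c ≠ 1 := fun h => by
    rw [h, orderOf_one] at hc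
    exact hr.one_lt.ne hc
  have hcp : ¬ p ∣ orderOf c := fun h => hrp ((Nat.prime_dvd_prime_iff_eq hp hr).1 (hc ▸ h)).symm
  have hRp := C.not_dvd_sylow hrp R
  have hRab := C.hyp.ab _ hRp
  have hRN : (R : Subgroup G) ≤ Subgroup.normalizer ((P : Subgroup G) : Set G) := fun v hv =>
    C.centralizer_le_of_centralizes hcp hc1 hcP (Subgroup.mem_centralizer_singleton_iff.2 (hRab v hv c hcR))
  obtain ⟨x, hx, hxN, v₀, hv₀, hxv₀⟩ :=
    C.exists_acting hrp (hc ▸ orderOf_dvd_natCard c) R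
  have hxc : x * c ≠ c * x := fun h => hxv₀ (C.key hrp hcR hc1 hcP hx hxN
    (by rw [h, mul_inv_cancel_right]; exact hcP) v₀ hv₀)
  let Ω : Subgroup G :=
    { carrier := {ω | ω ∈ (R : Subgroup G) ∧ ω ^ r = 1}
      one_mem' := ⟨Subgroup.one_mem _, one_pow r⟩
      mul_mem' := fun {a b} ha hb => ⟨Subgroup.mul_mem _ ha.1 hb.1, by
        rw [(show Commute a b from hRab a ha.1 b hb.1).mul_pow, ha.2, hb.2, one_mul]⟩
      inv_mem' := fun {a} ha => ⟨Subgroup.inv_mem _ ha.1, by rw [inv_pow, ha.2, inv_one]⟩ }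
  let Ω₀ : Subgroup G := Ω ⊓ Subgroup.centralizer ((P : Subgroup G) : Set G)
  have hΩ₀ : ∀ ω, ω ∈ Ω₀ → ∀ y ∈ (P : Subgroup G), ω * y = y * ω := fun ω h y hy => (h.2 y hy).symm
  have hcΩ : c ∈ Ω := ⟨hcR, hc ▸ pow_orderOf_eq_one c⟩
  have hcΩ₀ : c ∈ Ω₀ := ⟨hcΩ, fun y hy => (hcP y hy).symm⟩
  have hconj : ∀ i : ℤ, ∀ ω ∈ Ω, x ^ i * ω * (x ^ i)⁻¹ ∈ Ω := fun i ω hω =>
    ⟨(Subgroup.mem_normalizer_iff.1 (Subgroup.zpow_mem _ hxN i) ω).1 hω.1, by rw [conj_pow, hω.2]; simp⟩
  have hxi : ∀ i : ℤ, PEl p (x ^ i) := fun i => PEl.of_mem hx.isPGroup (Subgroup.zpow_mem_zpowers x i)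
  -- action on an element of order p
  obtain ⟨z, hz⟩ := exists_prime_orderOf_dvd_card' (G := ↥(P : Subgroup G)) p (P.dvd_card_of_dvd_card C.dvd)
  rw [← Subgroup.orderOf_coe] at hz
  have hz1 : (z : G) ≠ 1 := fun h => by
    rw [h, orderOf_one] at hz
    exact hp.one_lt.ne hz
  have hval : ∀ ω ∈ Ω, ∃ m : ZMod p, ω * z * ω⁻¹ = (z : G) ^ m.val ∧ m ^ r = 1 := by
    intro ω hω
    have := C.hyp.cyc P
    have hz' : ω * z * ω⁻¹ ∈ (P : Subgroup G) := (Subgroup.mem_normalizer_iff.1 (hRN hω.1) z).1 z.2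
    have e : Subgroup.zpowers z = Subgroup.zpowers (⟨_, hz'⟩ : ↥(P : Subgroup G)) :=
      CfsgLib.CharactersDeep.QuaternionSylow.eq_of_card_eq (by
        rw [Nat.card_zpowers, Nat.card_zpowers, Subgroup.orderOf_mk, ← Subgroup.orderOf_coe]
        exact (orderOf_injective (MulAut.conj ω).toMonoidHom (MulAut.conj ω).injective (z : G)).symm)
    obtain ⟨k, hk⟩ : ∃ k : ℕ, z ^ k = (⟨_, hz'⟩ : ↥(P : Subgroup G)) :=
      mem_powers_iff_mem_zpowers.2 (e.symm ▸ Subgroup.mem_zpowers (⟨_, hz'⟩ : ↥(P : Subgroup G)))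
    have hk' : (z : G) ^ k = ω * z * ω⁻¹ := congrArg Subtype.val hk
    refine ⟨(k : ZMod p), ?_, ?_⟩
    · rw [← hk', ZMod.val_natCast]
      exact pow_eq_pow_iff_modEq.2 (by rw [hz]; exact (Nat.mod_modEq k p).symm)
    · have hit : ∀ i : ℕ, ω ^ i * z * (ω ^ i)⁻¹ = (z : G) ^ (k ^ i) := by
        intro i
        induction i with
        | zero => simp
        | succ i ih =>
          calc ω ^ (i + 1) * z * (ω ^ (i + 1))⁻¹ = ω * (ω ^ i * z * (ω ^ i)⁻¹) * ω⁻¹ := by
                rw [pow_succ']; group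
            _ = (ω * z * ω⁻¹) ^ (k ^ i) := by rw [ih, conj_pow]
            _ = _ := by rw [← hk', ← pow_mul, ← pow_succ']
      have h2 := hit r
      rw [hω.2, one_mul, inv_one, mul_one] at h2
      have h3 : (z : G) ^ 1 = (z : G) ^ (k ^ r) := by rw [pow_one]; exact h2
      rw [pow_eq_pow_iff_modEq, hz] at h3
      rw [← Nat.cast_pow, ← Nat.cast_one, ZMod.natCast_eq_natCast_iff]
      exact h3.symm
  choose! m hm hmr using hval
  have hfib : ∀ ω ∈ Ω, ∀ ω' ∈ Ω, m ω = m ω' → ω'⁻¹ * ω ∈ Ω₀ := by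
    intro ω hω ω' hω' he
    have h1 : ω'⁻¹ * ω * z = z * (ω'⁻¹ * ω) := by
      have h2 : ω * z * ω⁻¹ = ω' * z * ω'⁻¹ := by rw [hm ω hω, hm ω' hω', he]
      have := congrArg (fun w => ω'⁻¹ * w * ω) h2
      simpa [mul_assoc] using this
    have hmem : ω'⁻¹ * ω ∈ Ω := Ω.mul_mem (Ω.inv_mem hω') hω
    exact ⟨hmem, fun y hy => (C.act_fpf (fun h => hRp (h.trans (Subgroup.orderOf_dvd_natCard _ hmem.1)))
      (hRN hmem.1) z.2 hz1 h1 y hy).symm⟩
  have hm1 : ∀ ω ∈ Ω, m ω = 1 → ω ∈ Ω₀ := by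
    intro ω hω he
    have h := hfib ω hω 1 Ω.one_mem ?_
    · simpa using h
    · have h1 := hm 1 Ω.one_mem
      rw [one_mul, inv_one, mul_one] at h1
      have h2 : (z : G) ^ 1 = (z : G) ^ (m 1).val := by rw [pow_one]; exact h1
      rw [pow_eq_pow_iff_modEq, hz, ← ZMod.natCast_eq_natCast_iff, ZMod.natCast_zmod_val, Nat.cast_one] at h2
      rw [he, h2]
  -- cardinality bounds
  have hbound : Nat.card ↥Ω ≤ r * Nat.card ↥Ω₀ := by
    have hle : Ω₀ ≤ Ω := inf_le_left
    have h := Subgroup.card_mul_index (Ω₀.subgroupOf Ω)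
    rw [Nat.card_congr (Subgroup.subgroupOfEquivOfLe hle).toEquiv] at h
    rw [← h, mul_comm r]
    refine Nat.mul_le_mul_left _ ?_
    let f : ↥Ω ⧸ Ω₀.subgroupOf Ω → {u : ZMod p // u ^ r = 1} := fun q =>
      ⟨m (q.out : G), hmr _ q.out.2⟩
    have hf : Function.Injective f := by
      intro q q' hqq
      have h1 := hfib _ q.out.2 _ q'.out.2 (congrArg Subtype.val hqq)
      rw [← QuotientGroup.out_eq' q, ← QuotientGroup.out_eq' q']
      exact ((QuotientGroup.eq).2 (show ((q'.out)⁻¹ * q.out : ↥Ω) ∈ Ω₀.subgroupOf Ω from h1)).symm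
    refine (Nat.card_le_card_of_injective f hf).trans ?_
    have hsub : {u : ZMod p | u ^ r = 1} ⊆ ((Polynomial.nthRoots r (1 : ZMod p)).toFinset : Set (ZMod p)) := by
      intro u hu
      simpa [Polynomial.mem_nthRoots hr.pos] using hu
    show Nat.card ↥{u : ZMod p | u ^ r = 1} ≤ r
    rw [Nat.card_coe_set_eq]
    refine (Set.ncard_le_ncard hsub).trans ?_
    rw [Set.ncard_coe_finset]
    exact ((Multiset.toFinset_card_le _).trans (Polynomial.card_nthRoots r 1))
  have hsq : Nat.card ↥Ω₀ * Nat.card ↥Ω₀ ≤ Nat.card ↥Ω := by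
    rw [← Nat.card_prod]
    refine Nat.card_le_card_of_injective (fun w : ↥Ω₀ × ↥Ω₀ => (⟨(w.1 : G) * (x * (w.2 : G) * x⁻¹),
      Ω.mul_mem w.1.2.1 (by simpa using hconj 1 _ w.2.2.1)⟩ : ↥Ω)) ?_
    rintro ⟨a, b⟩ ⟨a', b'⟩ h
    have h' : (a : G) * (x * b * x⁻¹) = a' * (x * b' * x⁻¹) := congrArg Subtype.val h
    have hb : ((b' : G) * (b : G)⁻¹) = 1 := by
      by_contra hne
      have e : x * ((b' : G) * (b : G)⁻¹) * x⁻¹ = (a' : G)⁻¹ * a := by
        have e2 := congrArg (fun w => (a' : G)⁻¹ * w * (x * (b : G)⁻¹ * x⁻¹)) h'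
        simpa [mul_assoc] using e2.symm
      refine hxv₀ (C.key hrp (Subgroup.mul_mem _ b'.2.1.1 (Subgroup.inv_mem _ b.2.1.1)) hne
        (hΩ₀ _ (Ω₀.mul_mem b'.2 (Ω₀.inv_mem b.2))) hx hxN ?_ v₀ hv₀)
      rw [e]
      exact hΩ₀ _ (Ω₀.mul_mem (Ω₀.inv_mem a'.2) a.2)
    have hb' : b' = b := Subtype.ext (mul_inv_eq_one.1 hb)
    subst hb'
    exact Prod.ext (Subtype.ext (mul_right_cancel h')) rfl
  have hΩ₀le : Nat.card ↥Ω₀ ≤ r := Nat.le_of_mul_le_mul_right (hsq.trans hbound) Nat.card_pos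
  have hΩle : Nat.card ↥Ω ≤ r * r := hbound.trans (Nat.mul_le_mul_left r hΩ₀le)
  -- the orbit
  set O := MixedOrder.powOrbit x c
  have hOge : p ≤ O.ncard := MixedOrder.ncard_powOrbit hx hxc
  have hOΩ : ∀ o ∈ O, o ∈ Ω ∧ o ≠ 1 := by
    rintro o ⟨i, rfl⟩
    exact ⟨hconj i c hcΩ, by simpa using hc1⟩
  have hOle : O.ncard * (r - 1) + 1 ≤ Nat.card ↥Ω := by
    have h1 : Nat.card (↥O × Fin (r - 1)) ≤ Nat.card {w : ↥Ω // w ≠ 1} := by
      have hne : ∀ (o : ↥O) (k : Fin (r - 1)), (o : G) ^ (k.val + 1) ≠ 1 := by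
        intro o k h
        obtain ⟨hoΩ, ho1⟩ := hOΩ o o.2
        have := Nat.le_of_dvd (Nat.succ_pos _) ((orderOf_eq_prime hoΩ.2 ho1) ▸ orderOf_dvd_of_pow_eq_one h)
        omega
      refine Nat.card_le_card_of_injective (fun w => (⟨⟨(w.1 : G) ^ (w.2.val + 1),
        Ω.pow_mem (hOΩ w.1 w.1.2).1 _⟩, fun h => hne w.1 w.2 (congrArg Subtype.val h)⟩ : {w : ↥Ω // w ≠ 1})) ?_
      rintro ⟨⟨o, ho⟩, k⟩ ⟨⟨o', ho'⟩, k'⟩ h
      have h' : o ^ (k.val + 1) = o' ^ (k'.val + 1) := congrArg (fun w : {w : ↥Ω // w ≠ 1} => ((w.1 : ↥Ω) : G)) h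
      have hoo : o = o' := by
        obtain ⟨i, rfl⟩ := ho
        obtain ⟨j, rfl⟩ := ho'
        set y := (x ^ j)⁻¹ * x ^ i
        have hy : PEl p y := PEl.of_mem hx.isPGroup (Subgroup.mul_mem _
          (Subgroup.inv_mem _ (Subgroup.zpow_mem_zpowers x j)) (Subgroup.zpow_mem_zpowers x i))
        have hyN : y ∈ Subgroup.normalizer ((R : Subgroup G) : Set G) :=
          Subgroup.mul_mem _ (Subgroup.inv_mem _ (Subgroup.zpow_mem _ hxN j)) (Subgroup.zpow_mem _ hxN i)
        rw [conj_pow, conj_pow] at h'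
        have he : y * c ^ (k.val + 1) * y⁻¹ = c ^ (k'.val + 1) := by
          have := congrArg (fun w => (x ^ j)⁻¹ * w * x ^ j) h'
          simpa [y, mul_assoc] using this
        have hck : c ^ (k.val + 1) ≠ 1 := fun h0 => by
          have := Nat.le_of_dvd (Nat.succ_pos _) (hc ▸ orderOf_dvd_of_pow_eq_one h0)
          omega
        have hyc : y * c = c * y := C.key hrp (Subgroup.pow_mem _ hcR _) hck
          (fun w hw => (Commute.pow_left (hcP w hw) _).eq) hy hyN
          (fun w hw => by rw [he]; exact (Commute.pow_left (hcP w hw) _).eq) c hcR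
        have := congrArg (fun w => x ^ j * w * (x ^ i)⁻¹) hyc
        simpa [y, mul_assoc] using this
      subst hoo
      have hkk : k = k' := by
        obtain ⟨hoΩ, ho1⟩ := hOΩ o ho
        rw [pow_eq_pow_iff_modEq, orderOf_eq_prime hoΩ.2 ho1] at h'
        exact Fin.ext (by
          have := Nat.ModEq.eq_of_lt_of_lt h' (by omega) (by omega)
          omega)
      subst hkk
      rfl
    rw [Nat.card_prod, Nat.card_fin, Nat.card_coe_set_eq] at h1
    have h2 : Nat.card {w : ↥Ω // w ≠ 1} + 1 = Nat.card ↥Ω := by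
      have := Fintype.ofFinite ↥Ω
      rw [Nat.card_eq_fintype_card, Nat.card_eq_fintype_card, Fintype.card_subtype_compl, Fintype.card_subtype_eq]
      have : 1 ≤ Fintype.card ↥Ω := Fintype.card_pos
      omega
    omega
  -- the prime `r` divides `p - 1`
  have hrp1 : r ∣ p - 1 := by
    have hm' : m (x * c * x⁻¹) ≠ 1 := fun he => by
      have h := hm1 _ (by simpa using hconj 1 c hcΩ) he
      exact hxv₀ (C.key hrp hcR hc1 hcP hx hxN (hΩ₀ _ h) v₀ hv₀)
    have hu := hmr (x * c * x⁻¹) (by simpa using hconj 1 c hcΩ)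
    have ho := orderOf_eq_prime hu hm'
    rw [← ho]
    refine orderOf_dvd_of_pow_eq_one (ZMod.pow_card_sub_one_eq_one fun h0 => ?_)
    rw [h0, zero_pow hr.ne_zero] at hu
    exact zero_ne_one hu
  have hge : r + 1 ≤ p := by
    have := Nat.le_of_dvd (by have := hp.two_le; omega) hrp1
    omega
  have hr2' := hr.two_le
  have hOsmall : O.ncard ≤ r + 1 := by
    have h1 : O.ncard * (r - 1) + 1 ≤ r * r := hOle.trans hΩle
    obtain ⟨s, rfl⟩ : ∃ s, r = s + 1 := ⟨r - 1, by omega⟩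
    rw [Nat.add_sub_cancel] at h1
    have : O.ncard * s ≤ (s + 2) * s := by nlinarith
    exact Nat.le_of_mul_le_mul_right this (by omega)
  have hpr : p = r + 1 := by omega
  have hr2 : r = 2 := by
    rcases hr.eq_two_or_odd' with h | h
    · exact h
    · exfalso
      obtain ⟨k, hk⟩ := hp.odd_of_ne_two C.p_ne_two
      obtain ⟨l, hl⟩ := h
      omega
  refine ⟨hr2, by omega, x, hx, hxN, hxc, (by show O.ncard = 3; omega), fun ω hω hωr hω1 => ?_⟩
  have heq : O = (Ω : Set G) \ {1} := by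
    refine Set.eq_of_subset_of_ncard_le (fun o ho => ⟨(hOΩ o ho).1, (hOΩ o ho).2⟩) ?_
    rw [Set.ncard_sdiff_singleton_of_mem (show (1 : G) ∈ (Ω : Set G) from Ω.one_mem), ← Nat.card_coe_set_eq,
      SetLike.coe_sort_coe]
    subst hr2
    omega
  show ω ∈ O
  rw [heq]
  exact ⟨⟨hω, hωr⟩, hω1⟩

theorem exists_inverted {t s : G} (ht : orderOf t = 2) (hs : orderOf s = 2) (hne : t * s ≠ s * t) :
    ∃ y : G, PEl p y ∧ y ≠ 1 ∧ y ∈ Subgroup.zpowers (t * s) ∧ t * y * t⁻¹ = y⁻¹ ∧ s * y * s⁻¹ = y⁻¹ := by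
  have hp : p.Prime := Fact.out
  set g := t * s with hg
  have htt : t * t = 1 := by rw [← pow_two, ← ht, pow_orderOf_eq_one]
  have hss : s * s = 1 := by rw [← pow_two, ← hs, pow_orderOf_eq_one]
  have hti : t⁻¹ = t := inv_eq_of_mul_eq_one_right htt
  have hsi : s⁻¹ = s := inv_eq_of_mul_eq_one_right hss
  have hg1 : t * g * t⁻¹ = g⁻¹ := by
    rw [hg, hti, _root_.mul_inv_rev, hsi, hti, ← mul_assoc, htt, one_mul]
  have hg2 : s * g * s⁻¹ = g⁻¹ := by
    rw [hg, hsi, _root_.mul_inv_rev, hsi, hti, mul_assoc, mul_assoc, hss, mul_one]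
  set n' := orderOf g / p ^ (orderOf g).factorization p
  refine ⟨g ^ n', pel_part g, ?_, Subgroup.pow_mem _ (Subgroup.mem_zpowers g) _,
    by rw [← conj_pow, hg1, inv_pow], by rw [← conj_pow, hg2, inv_pow]⟩
  intro hy
  have hgp : ¬ p ∣ orderOf g := fun h =>
    Nat.not_dvd_ordCompl hp (orderOf_pos g).ne' (h.trans (orderOf_dvd_of_pow_eq_one hy))
  have hN : Subgroup.zpowers t ≤ Subgroup.normalizer (Subgroup.zpowers g : Set G) := by
    rw [Subgroup.zpowers_le, Subgroup.mem_normalizer_iff]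
    have key : ∀ u ∈ Subgroup.zpowers g, t * u * t⁻¹ ∈ Subgroup.zpowers g := by
      intro u hu
      obtain ⟨i, rfl⟩ := Subgroup.mem_zpowers_iff.1 hu
      rw [← conj_zpow, hg1]
      exact Subgroup.zpow_mem _ (Subgroup.inv_mem _ (Subgroup.mem_zpowers g)) i
    refine fun u => ⟨key u, fun hu => ?_⟩
    have h1 := key _ hu
    rw [hti] at h1
    simp only [← mul_assoc, htt, one_mul] at h1
    rwa [mul_assoc, htt, mul_one] at h1
  have hab := C.hyp.ab _ (not_dvd_sup (not_dvd_card_zpowers (C.not_dvd_of_order_two ht))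
    (not_dvd_card_zpowers hgp) hN) t (Subgroup.mem_sup_left (Subgroup.mem_zpowers t)) g
    (Subgroup.mem_sup_right (Subgroup.mem_zpowers g))
  refine hne ?_
  rw [hg, ← mul_assoc, htt, one_mul] at hab
  show t * s = s * t
  calc t * s = t * (t * s * t) := by rw [← hab]
    _ = s * t := by rw [← mul_assoc, ← mul_assoc, htt, one_mul]

/-- An involution normalizing `P` and centralizing no nontrivial element inverts it. -/
theorem inverts {P : Sylow p G} {u : G} (hu : orderOf u = 2)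
    (huN : u ∈ Subgroup.normalizer ((P : Subgroup G) : Set G))
    (hne : ∃ x ∈ (P : Subgroup G), u * x ≠ x * u) : ∀ c ∈ (P : Subgroup G), u * c * u⁻¹ = c⁻¹ := by
  obtain ⟨x, hx, hux⟩ := hne
  obtain ⟨hfix, -⟩ := (act_cases P.isPGroup' (C.hyp.cyc P) (C.not_dvd_of_order_two hu) huN).resolve_left
    (fun h => hux (h x hx))
  intro c hc
  have hd : u * c * u⁻¹ ∈ (P : Subgroup G) := (Subgroup.mem_normalizer_iff.1 huN c).1 hc
  have hcd := C.hyp.abelian P.isPGroup' c hc _ hd
  have huu : u * u = 1 := by rw [← pow_two, ← hu, pow_orderOf_eq_one]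
  have hui : u⁻¹ = u := inv_eq_of_mul_eq_one_right huu
  have h1 := hfix (c * (u * c * u⁻¹)) (Subgroup.mul_mem _ hc hd) (by
    conv_rhs => rw [hcd]
    rw [hui]
    simp only [mul_assoc])
  exact eq_inv_of_mul_eq_one_right h1

/-- An involution inverting a nontrivial `p`-element normalizes its Sylow subgroup. -/
theorem mem_normalizer_of_inverts {t y : G} (ht : orderOf t = 2) (hy1 : y ≠ 1)
    (hty : t * y * t⁻¹ = y⁻¹) {P : Sylow p G} (hyP : y ∈ (P : Subgroup G)) :
    t ∈ Subgroup.normalizer ((P : Subgroup G) : Set G) := by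
  refine C.normalizer_zpowers_le hyP hy1 ?_
  have htt : t * t = 1 := by rw [← pow_two, ← ht, pow_orderOf_eq_one]
  have hti : t⁻¹ = t := inv_eq_of_mul_eq_one_right htt
  have key : ∀ u ∈ Subgroup.zpowers y, t * u * t⁻¹ ∈ Subgroup.zpowers y := by
    intro u hu
    obtain ⟨i, rfl⟩ := Subgroup.mem_zpowers_iff.1 hu
    rw [← conj_zpow, hty]
    exact Subgroup.zpow_mem _ (Subgroup.inv_mem _ (Subgroup.mem_zpowers y)) i
  rw [Subgroup.mem_normalizer_iff]
  refine fun u => ⟨key u, fun hu => ?_⟩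
  have h1 := key _ hu
  rw [hti] at h1
  simp only [← mul_assoc, htt, one_mul] at h1
  rwa [mul_assoc, htt, mul_one] at h1

theorem eq_one_of_inverted_fixed {t y : G} (hy : PEl p y) (hty : t * y * t⁻¹ = y⁻¹)
    (hc : t * y = y * t) : y = 1 := by
  rw [hc, mul_inv_cancel_right] at hty
  refine eq_one_of_pel hy (fun h => ?_)
  have h1 : orderOf y ∣ 2 := orderOf_dvd_of_pow_eq_one (by
    rw [pow_two]; nth_rewrite 2 [hty]; exact mul_inv_cancel y)
  exact C.p_ne_two ((Nat.prime_dvd_prime_iff_eq Fact.out Nat.prime_two).1 (h.trans h1))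

/-- The case in which some element of order prime to `p` commutes with a nontrivial `p`-element. -/
theorem false_of_mixed {c₀ x₀ : G} (hc₀ : ¬ p ∣ orderOf c₀) (hc₀1 : c₀ ≠ 1) (hx₀ : PEl p x₀)
    (hx₀1 : x₀ ≠ 1) (hcx : c₀ * x₀ = x₀ * c₀) : False := by
  classical
  have hp : p.Prime := Fact.out
  obtain ⟨r, hr, hrd⟩ := Nat.exists_prime_and_dvd (n := orderOf c₀) (fun h => hc₀1 (orderOf_eq_one_iff.1 h))
  have := Fact.mk hr
  have hrp : r ≠ p := fun h => hc₀ (h ▸ hrd)
  obtain ⟨P₀, hP₀⟩ := hx₀.isPGroup.exists_le_sylow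
  have hx₀P : x₀ ∈ (P₀ : Subgroup G) := hP₀ (Subgroup.mem_zpowers x₀)
  set c := c₀ ^ (orderOf c₀ / r) with hcdef
  have hco : orderOf c = r := orderOf_pow_orderOf_div (orderOf_pos c₀).ne' hrd
  have hcp : ¬ p ∣ orderOf c := fun h => hrp ((Nat.prime_dvd_prime_iff_eq hp hr).1 (hco ▸ h)).symm
  have hcc : c * x₀ = x₀ * c := ((show Commute c₀ x₀ from hcx).pow_left _).eq
  have hcP₀ := C.act_fpf hcp (C.centralizer_le hx₀P hx₀1 (Subgroup.mem_centralizer_singleton_iff.2 hcc))
    hx₀P hx₀1 hcc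
  obtain ⟨R₀, hR₀⟩ := (show PEl r c from ⟨1, by rw [hco, pow_one]⟩).isPGroup.exists_le_sylow
  obtain ⟨rfl, hp3, x₁, hx₁, hx₁N, hx₁c, hO3, hOall⟩ :=
    C.structure_of_centralizing hrp hco hcP₀ R₀ (hR₀ (Subgroup.mem_zpowers c))
  -- every involution centralizes a Sylow subgroup
  have hI : ∀ u : G, orderOf u = 2 → ∃ P : Sylow p G, ∀ w ∈ (P : Subgroup G), u * w = w * u := by
    intro u hu
    obtain ⟨R, hR⟩ := (show PEl 2 u from ⟨1, by rw [hu, pow_one]⟩).isPGroup.exists_le_sylow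
    obtain ⟨g, rfl⟩ := MulAction.exists_smul_eq G R₀ R
    have hu' : g⁻¹ * u * g ∈ (R₀ : Subgroup G) :=
      (MixedOrder.Conf.mem_smul_sylow g R₀ u).1 (hR (Subgroup.mem_zpowers u))
    obtain ⟨i, hi⟩ := hOall _ hu' (by
      rw [show g⁻¹ * u * g = g⁻¹ * u * g⁻¹⁻¹ by group, conj_pow, ← hu, pow_orderOf_eq_one]; group) (fun h => by
      have := congrArg (fun w => g * w * g⁻¹) h
      simp only [mul_assoc, mul_inv_cancel_left, mul_inv_cancel, mul_one] at this
      exact C.ne_one_of_order_two hu this)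
    refine ⟨(g * x₁ ^ i) • P₀, fun w hw => ?_⟩
    rw [MixedOrder.Conf.mem_smul_sylow] at hw
    have h1 := hcP₀ _ hw
    have hu2 : u = g * x₁ ^ i * c * (g * x₁ ^ i)⁻¹ := by
      have := congrArg (fun v => g * v * g⁻¹) hi
      simp only [mul_assoc, mul_inv_cancel_left, mul_inv_cancel, mul_one] at this
      rw [this]; group
    have h2 := congrArg (fun v => g * x₁ ^ i * v * (g * x₁ ^ i)⁻¹) h1
    rw [hu2]
    simpa [mul_assoc] using h2
  -- a Sylow subgroup is centralized by at most one involution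
  have uniqT : ∀ (P : Sylow p G) (t w : G), orderOf t = 2 → orderOf w = 2 →
      (∀ v ∈ (P : Subgroup G), t * v = v * t) → (∀ v ∈ (P : Subgroup G), w * v = v * w) → w = t := by
    intro P t w ht hw htP hwP
    by_contra hne
    by_cases hc : t * w = w * t
    · have h2t := (show PEl 2 t from ⟨1, by rw [ht, pow_one]⟩).isPGroup
      have h2w := (show PEl 2 w from ⟨1, by rw [hw, pow_one]⟩).isPGroup
      have hN : Subgroup.zpowers t ≤ Subgroup.normalizer (Subgroup.zpowers w : Set G) :=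
        Subgroup.zpowers_le.2 (Subgroup.centralizer_le_normalizer _ fun v hv => by
          obtain ⟨i, rfl⟩ := Subgroup.mem_zpowers_iff.1 hv
          exact ((show Commute w t from hc.symm).zpow_left i).eq)
      obtain ⟨R, hR⟩ := (IsPGroup.to_sup_of_normal_right' h2t h2w hN).exists_le_sylow
      have htR : t ∈ (R : Subgroup G) := hR (Subgroup.mem_sup_left (Subgroup.mem_zpowers t))
      have hwR : w ∈ (R : Subgroup G) := hR (Subgroup.mem_sup_right (Subgroup.mem_zpowers w))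
      obtain ⟨-, -, x, hx, hxN, -, -, hall⟩ := C.structure_of_centralizing (Ne.symm C.p_ne_two) ht htP R htR
      obtain ⟨i, hi⟩ := hall w hwR (by rw [← hw, pow_orderOf_eq_one]) (C.ne_one_of_order_two hw)
      have h1 := C.key (Ne.symm C.p_ne_two) htR (C.ne_one_of_order_two ht) htP
        (PEl.of_mem hx.isPGroup (Subgroup.zpow_mem_zpowers x i)) (Subgroup.zpow_mem _ hxN i) (hi ▸ hwP) t htR
      rw [h1, mul_inv_cancel_right] at hi
      exact hne hi
    · obtain ⟨y, hy, hy1, hyz, hty, -⟩ := C.exists_inverted ht hw hc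
      obtain ⟨i, hi⟩ := Subgroup.mem_zpowers_iff.1 hyz
      have hyN : y ∈ Subgroup.normalizer ((P : Subgroup G) : Set G) :=
        Subgroup.centralizer_le_normalizer _ fun v hv =>
          (hi ▸ ((show Commute t v from htP v hv).mul_left (hwP v hv)).zpow_left i : Commute y v).eq.symm
      exact hy1 (C.eq_one_of_inverted_fixed hy hty (htP y (hy.mem_sylow P hyN)))
  have inv : ∀ (P : Sylow p G) (t u : G), orderOf t = 2 → orderOf u = 2 →
      (∀ v ∈ (P : Subgroup G), t * v = v * t) → u ≠ t → u * t = t * u →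
        ∀ v ∈ (P : Subgroup G), u * v * u⁻¹ = v⁻¹ := by
    intro P t u ht hu htP hut hutc
    refine C.inverts hu ?_ ?_
    · exact C.centralizer_le_of_centralizes (C.not_dvd_of_order_two ht) (C.ne_one_of_order_two ht) htP
        (Subgroup.mem_centralizer_singleton_iff.2 hutc)
    · by_contra hall
      push Not at hall
      exact hut (uniqT P t u ht hu htP hall)
  have four : ∀ t u w : G, orderOf t = 2 → orderOf u = 2 → orderOf w = 2 → t * u = u * t → t * w = w * t →
      u * w = w * u → u ≠ t → w ≠ t → w ≠ u → w = t * u := by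
    intro t u w ht hu hw htu htw huw hut hwt hwu
    obtain ⟨P, htP⟩ := hI t ht
    by_contra hne
    have huu : u * u = 1 := by rw [← pow_two, ← hu, pow_orderOf_eq_one]
    have hww : w * w = 1 := by rw [← pow_two, ← hw, pow_orderOf_eq_one]
    have hsq : (u * w) * (u * w) = 1 := by
      rw [mul_assoc, ← mul_assoc w u w, ← huw, mul_assoc u w w, hww, mul_one, huu]
    have hne1 : u * w ≠ 1 := fun e => hwu (mul_left_cancel (e.trans huu.symm))
    have huwo : orderOf (u * w) = 2 := orderOf_eq_prime (by rw [pow_two, hsq]) hne1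
    refine hne ?_
    have hcent : ∀ v ∈ (P : Subgroup G), u * w * v = v * (u * w) := by
      intro v hv
      refine mul_inv_eq_iff_eq_mul.1 ?_
      have h1 := inv P t u ht hu htP hut htu.symm v hv
      have h2 := inv P t w ht hw htP hwt htw.symm v hv
      calc u * w * v * (u * w)⁻¹ = u * (w * v * w⁻¹) * u⁻¹ := by group
        _ = (u * v * u⁻¹)⁻¹ := by rw [h2]; group
        _ = v := by rw [h1, inv_inv]
    rw [← uniqT P t (u * w) ht huwo htP hcent, huw, mul_assoc, huu, mul_one]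
  -- the commuting graph of the involutions
  let V := {g : G // orderOf g = 2}
  let rel : V → V → Prop := fun a b => a ≠ b ∧ a.1 * b.1 = b.1 * a.1
  have : Nonempty V := ⟨⟨c, hco⟩⟩
  have hconjAll : ∀ a b : V, ∃ g, b.1 = g * a.1 * g⁻¹ := by
    have hto : ∀ a : V, ∃ g, a.1 = g * c * g⁻¹ := by
      rintro ⟨u, hu⟩
      obtain ⟨P, hP⟩ := hI u hu
      obtain ⟨g, hg⟩ := MulAction.exists_smul_eq G P₀ P
      refine ⟨g, uniqT P (g * c * g⁻¹) u
        ((orderOf_injective (MulAut.conj g).toMonoidHom (MulAut.conj g).injective c).trans hco) hu (fun v hv => ?_) hP⟩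
      rw [← hg, MixedOrder.Conf.mem_smul_sylow] at hv
      have := congrArg (fun w => g * w * g⁻¹) (hcP₀ _ hv)
      simpa [mul_assoc] using this
    intro a b
    obtain ⟨g, hg⟩ := hto a
    obtain ⟨h, hh⟩ := hto b
    exact ⟨h * g⁻¹, by rw [hh, hg]; group⟩
  have hconst : ∀ a b : V, Nat.card {w // rel a w} = Nat.card {w // rel b w} := by
    intro a b
    obtain ⟨g, hg⟩ := hconjAll a b
    let e : V ≃ V := Equiv.subtypeEquiv (MulAut.conj g).toEquiv fun x => by
      show orderOf x = 2 ↔ orderOf ((MulAut.conj g).toMonoidHom x) = 2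
      rw [orderOf_injective _ (MulAut.conj g).injective]
    have hea : e a = b := Subtype.ext hg.symm
    refine Nat.card_congr (Equiv.subtypeEquiv e fun w => ?_)
    show (a ≠ w ∧ _) ↔ (b ≠ e w ∧ b.1 * (e w).1 = (e w).1 * b.1)
    rw [← hea, e.injective.ne_iff]
    refine and_congr Iff.rfl ?_
    show a.1 * w.1 = w.1 * a.1 ↔ (MulAut.conj g) a.1 * (MulAut.conj g) w.1 = (MulAut.conj g) w.1 * (MulAut.conj g) a.1
    rw [← map_mul, ← map_mul, (MulAut.conj g).injective.eq_iff]
  refine no_regular_unique_common rel (fun a h => h.1 rfl) (fun a b h => ⟨h.1.symm, h.2.symm⟩)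
    (Nat.card {w // rel ⟨c, hco⟩ w}) ?_ (fun a => hconst a _) ?_
  · have hcR : c ∈ (R₀ : Subgroup G) := hR₀ (Subgroup.mem_zpowers c)
    set u := x₁ * c * x₁⁻¹ with hu
    have huR : u ∈ (R₀ : Subgroup G) := (Subgroup.mem_normalizer_iff.1 hx₁N c).1 hcR
    have huo : orderOf u = 2 := by
      rw [← hco]; exact orderOf_injective (MulAut.conj x₁).toMonoidHom (MulAut.conj x₁).injective c
    have hut : u ≠ c := fun e => hx₁c (mul_inv_eq_iff_eq_mul.1 e)
    have hcu : u * c = c * u := C.hyp.ab _ (C.not_dvd_sylow (Ne.symm C.p_ne_two) R₀) u huR c hcR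
    have hinv := inv P₀ c u hco huo hcP₀ hut hcu
    have huu : u * u = 1 := by rw [← pow_two, ← huo, pow_orderOf_eq_one]
    have huP : ∀ v ∈ (P₀ : Subgroup G), u * v ≠ 1 := by
      intro v hv e
      refine C.ne_one_of_order_two huo (eq_one_of_pel ?_ (C.not_dvd_of_order_two huo))
      rw [mul_eq_one_iff_eq_inv.1 e]
      exact PEl.of_mem P₀.isPGroup' (Subgroup.inv_mem _ hv)
    have hmk : ∀ v ∈ (P₀ : Subgroup G), orderOf (u * v) = 2 ∧ u * v ≠ c ∧ c * (u * v) = u * v * c := by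
      intro v hv
      have h1 : u * v = v⁻¹ * u := mul_inv_eq_iff_eq_mul.1 (hinv v hv)
      refine ⟨orderOf_eq_prime ?_ (huP v hv), fun e => ?_, ?_⟩
      · rw [pow_two]; nth_rewrite 2 [h1]; rw [mul_assoc, mul_inv_cancel_left, huu]
      · have hv1 : v = 1 := by
          refine eq_one_of_pel (PEl.of_mem P₀.isPGroup' hv) ?_
          have hve : v = u * c := by rw [← e, ← mul_assoc, huu, one_mul]
          rw [hve]
          exact fun h => C.not_dvd_sylow (Ne.symm C.p_ne_two) R₀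
            (h.trans (Subgroup.orderOf_dvd_natCard _ (Subgroup.mul_mem _ huR hcR)))
        exact hut (by rw [← e, hv1, mul_one])
      · exact ((show Commute c u from hcu.symm).mul_right (hcP₀ v hv)).eq
    let F : ↥(P₀ : Subgroup G) → {w // rel ⟨c, hco⟩ w} := fun v =>
      ⟨⟨u * v, (hmk v v.2).1⟩, fun e => (hmk v v.2).2.1 (congrArg Subtype.val e).symm, (hmk v v.2).2.2⟩
    refine le_trans ?_ (Nat.card_le_card_of_injective F fun a b h =>
      Subtype.ext (mul_left_cancel (congrArg (fun w : {w // rel ⟨c, hco⟩ w} => w.1.1) h)))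
    rw [← hp3]
    exact Nat.le_of_dvd Nat.card_pos (P₀.dvd_card_of_dvd_card C.dvd)
  · rintro ⟨v, hv⟩ ⟨w, hw⟩ hne
    have hne' : v ≠ w := fun e => hne (Subtype.ext e)
    rw [Nat.card_eq_one_iff_unique]
    by_cases hc : v * w = w * v
    · have hvv : v * v = 1 := by rw [← pow_two, ← hv, pow_orderOf_eq_one]
      have hww : w * w = 1 := by rw [← pow_two, ← hw, pow_orderOf_eq_one]
      have h1 : v * w ≠ 1 := fun e => hne' (mul_left_cancel (hvv.trans e.symm))
      have ho : orderOf (v * w) = 2 := orderOf_eq_prime (by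
        rw [pow_two, mul_assoc, ← mul_assoc w v w, ← hc, mul_assoc v w w, hww, mul_one, hvv]) h1
      refine ⟨⟨?_⟩, ⟨⟨⟨v * w, ho⟩, ⟨fun e => C.ne_one_of_order_two hw (mul_eq_left.1 (congrArg Subtype.val e).symm),
        ((Commute.refl v).mul_right hc).eq⟩, ⟨fun e => C.ne_one_of_order_two hv (mul_eq_right.1 (congrArg Subtype.val e)),
        ((Commute.mul_left hc (Commute.refl w) : Commute (v * w) w)).eq⟩⟩⟩⟩
      rintro ⟨⟨a, ha⟩, ⟨ha1, ha2⟩, ha3, ha4⟩ ⟨⟨b, hb⟩, ⟨hb1, hb2⟩, hb3, hb4⟩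
      have ea := four v w a hv hw ha hc ha2 ha4.symm (Ne.symm hne') (fun e => ha1 (Subtype.ext e.symm))
        (fun e => ha3 (Subtype.ext e))
      have eb := four v w b hv hw hb hc hb2 hb4.symm (Ne.symm hne') (fun e => hb1 (Subtype.ext e.symm))
        (fun e => hb3 (Subtype.ext e))
      exact Subtype.ext (Subtype.ext (ea.trans eb.symm))
    · obtain ⟨y, hy, hy1, hyz, hvy, hwy⟩ := C.exists_inverted hv hw hc
      obtain ⟨P, hP⟩ := hy.isPGroup.exists_le_sylow
      have hyP : y ∈ (P : Subgroup G) := hP (Subgroup.mem_zpowers y)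
      obtain ⟨g, hg⟩ := MulAction.exists_smul_eq G P₀ P
      set T := g * c * g⁻¹
      have hT : orderOf T = 2 := by
        rw [← hco]; exact orderOf_injective (MulAut.conj g).toMonoidHom (MulAut.conj g).injective c
      have hTc : ∀ u ∈ (P : Subgroup G), T * u = u * T := by
        intro u hu
        rw [← hg, MixedOrder.Conf.mem_smul_sylow] at hu
        have := congrArg (fun w => g * w * g⁻¹) (hcP₀ _ hu)
        simpa [T, mul_assoc] using this
      have hcomm : ∀ a : G, orderOf a = 2 → a * y * a⁻¹ = y⁻¹ → a ≠ T ∧ a * T = T * a := by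
        intro a ha hay
        refine ⟨fun e => hy1 (C.eq_one_of_inverted_fixed hy hay (e ▸ hTc y hyP)), ?_⟩
        have haN := C.mem_normalizer_of_inverts ha hy1 hay hyP
        refine mul_inv_eq_iff_eq_mul.1 (uniqT P T (a * T * a⁻¹) hT
          (by rw [← hT]; exact orderOf_injective (MulAut.conj a).toMonoidHom (MulAut.conj a).injective T) hTc ?_)
        intro u hu
        have := congrArg (fun v => a * v * a⁻¹) (hTc _ ((Subgroup.mem_normalizer_iff''.1 haN u).1 hu))
        simpa [mul_assoc] using this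
      obtain ⟨hvT, hvT'⟩ := hcomm v hv hvy
      obtain ⟨hwT, hwT'⟩ := hcomm w hw hwy
      refine ⟨⟨?_⟩, ⟨⟨⟨T, hT⟩, ⟨fun e => hvT (congrArg Subtype.val e), hvT'⟩,
        ⟨fun e => hwT (congrArg Subtype.val e).symm, hwT'.symm⟩⟩⟩⟩
      have key' : ∀ a : G, orderOf a = 2 → v * a = a * v → a * w = w * a → a = T := by
        intro a ha h1 h2
        obtain ⟨i, hi⟩ := Subgroup.mem_zpowers_iff.1 hyz
        have hay : Commute a y := hi ▸ ((show Commute a v from h1.symm).mul_right h2).zpow_right i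
        exact uniqT P T a hT ha hTc (C.act_fpf (C.not_dvd_of_order_two ha)
          (C.centralizer_le hyP hy1 (Subgroup.mem_centralizer_singleton_iff.2 hay.eq)) hyP hy1 hay.eq)
      rintro ⟨⟨a, ha⟩, ⟨-, ha2⟩, -, ha4⟩ ⟨⟨b, hb⟩, ⟨-, hb2⟩, -, hb4⟩
      exact Subtype.ext (Subtype.ext ((key' a ha ha2 ha4).trans (key' b hb hb2 hb4).symm))

/-- The case in which no element of order prime to `p` commutes with a nontrivial `p`-element. -/
theorem false_of_not_mixed
    (hII : ∀ c x : G, ¬ p ∣ orderOf c → PEl p x → x ≠ 1 → c * x = x * c → c = 1) : False := by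
  classical
  have hp : p.Prime := Fact.out
  have hcent : ∀ (P : Sylow p G) (x g : G), x ∈ (P : Subgroup G) → x ≠ 1 → g * x = x * g →
      g ∈ (P : Subgroup G) := by
    intro P x g hx hx1 hgx
    have h1 : g ^ p ^ (orderOf g).factorization p = 1 :=
      hII _ x (prime_part g) (PEl.of_mem P.isPGroup' hx) hx1 ((show Commute g x from hgx).pow_left _).eq
    have hg : PEl p g := by
      obtain ⟨j, -, hj⟩ := (Nat.dvd_prime_pow hp).1 (orderOf_dvd_of_pow_eq_one h1)
      exact ⟨j, hj⟩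
    exact hg.mem_sylow P (C.centralizer_le hx hx1 (Subgroup.mem_centralizer_singleton_iff.2 hgx))
  have hp' : ∀ g : G, g ≠ 1 → ¬ p ∣ orderOf g → ¬ p ∣ Nat.card ↥(Subgroup.centralizer ({g} : Set G)) := by
    intro g hg hgp hd
    obtain ⟨x, hx⟩ := exists_prime_orderOf_dvd_card' p hd
    rw [← Subgroup.orderOf_coe] at hx
    refine hg (hII g x hgp ⟨1, by rw [hx, pow_one]⟩ (fun h => ?_) (Subgroup.mem_centralizer_singleton_iff.1 x.2).symm)
    rw [h, orderOf_one] at hx
    exact hp.one_lt.ne hx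
  have hCA : CfsgLib.Characters.CA.AbelianCentralizers G := by
    intro g hg a ha b hb
    by_cases hgp : p ∣ orderOf g
    · set x := g ^ (orderOf g / p)
      have hxo : orderOf x = p := orderOf_pow_orderOf_div (orderOf_pos g).ne' hgp
      obtain ⟨P, hP⟩ := (show PEl p x from ⟨1, by rw [hxo, pow_one]⟩).isPGroup.exists_le_sylow
      have hx1 : x ≠ 1 := fun h => by rw [h, orderOf_one] at hxo; exact hp.one_lt.ne hxo
      have hgP := hcent P x g (hP (Subgroup.mem_zpowers x)) hx1 ((Commute.refl g).pow_right _).eq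
      exact C.hyp.abelian P.isPGroup' a (hcent P g a hgP hg (Subgroup.mem_centralizer_singleton_iff.1 ha))
        b (hcent P g b hgP hg (Subgroup.mem_centralizer_singleton_iff.1 hb))
    · exact C.hyp.ab _ (hp' g hg hgp) a ha b hb
  by_cases heven : ¬ 2 ∣ Nat.card G
  · have hsol : Group.IsSolvable G :=
      CfsgLib.Characters.CA.isSolvable_of_odd (Nat.odd_iff.2 (Nat.two_dvd_ne_zero.1 heven)) hCA
    obtain ⟨a, b, hab⟩ := C.nab
    have : Nontrivial G := ⟨⟨a, 1, fun h => hab (by simp [h])⟩⟩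
    have : IsSimpleGroup G := ⟨fun N hN => C.simple N hN⟩
    exact hab (IsSimpleGroup.comm_iff_isSolvable.2 hsol a b)
  push Not at heven
  have hne1 : ∀ {t : G}, orderOf t = 2 → t ≠ 1 := fun ht => C.ne_one_of_order_two ht
  -- every involution inverts a Sylow subgroup
  have hN : ∀ t : G, orderOf t = 2 → ∃ P : Sylow p G,
      t ∈ Subgroup.normalizer ((P : Subgroup G) : Set G) := by
    intro t ht
    obtain ⟨s, hs, hts⟩ : ∃ s, orderOf s = 2 ∧ t * s ≠ s * t := by
      by_contra hcon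
      push Not at hcon
      set S := Subgroup.closure {s : G | orderOf s = 2}
      have hSn : S.Normal := by
        refine ⟨fun n hn g => ?_⟩
        have hle : S ≤ S.comap (MulAut.conj g).toMonoidHom := by
          rw [Subgroup.closure_le]
          intro s hs
          exact Subgroup.subset_closure ((orderOf_injective (MulAut.conj g).toMonoidHom (MulAut.conj g).injective s).trans hs)
        exact hle hn
      rcases C.simple S hSn with h | h
      · have : t ∈ S := Subgroup.subset_closure ht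
        rw [h, Subgroup.mem_bot] at this
        exact hne1 ht this
      · refine C.centralizer_ne_top (hne1 ht) (top_le_iff.1 (h ▸ (Subgroup.closure_le _).2 fun s hs => ?_))
        exact Subgroup.mem_centralizer_singleton_iff.2 (hcon s hs).symm
    obtain ⟨y, hy, hy1, -, hty, -⟩ := C.exists_inverted ht hs hts
    obtain ⟨P, hP⟩ := hy.isPGroup.exists_le_sylow
    exact ⟨P, C.mem_normalizer_of_inverts ht hy1 hty (hP (Subgroup.mem_zpowers y))⟩
  have hz : ∀ P : Sylow p G, ∃ z ∈ (P : Subgroup G), z ≠ 1 := by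
    intro P
    refine (Subgroup.bot_or_exists_ne_one _).resolve_left fun h => ?_
    have := P.dvd_card_of_dvd_card C.dvd
    rw [h, Subgroup.card_bot] at this
    exact hp.not_dvd_one this
  have hinv : ∀ (P : Sylow p G) (u : G), orderOf u = 2 → u ∈ Subgroup.normalizer ((P : Subgroup G) : Set G) →
      ∀ v ∈ (P : Subgroup G), u * v * u⁻¹ = v⁻¹ := by
    intro P u hu huN
    obtain ⟨z, hzP, hz1⟩ := hz P
    exact C.inverts hu huN ⟨z, hzP, fun h => hne1 hu
      (hII u z (C.not_dvd_of_order_two hu) (PEl.of_mem P.isPGroup' hzP) hz1 h)⟩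
  have hprod : ∀ (P : Sylow p G) (u v : G), orderOf u = 2 → orderOf v = 2 →
      u ∈ Subgroup.normalizer ((P : Subgroup G) : Set G) → v ∈ Subgroup.normalizer ((P : Subgroup G) : Set G) →
        u * v ∈ (P : Subgroup G) := by
    intro P u v hu hv huN hvN
    obtain ⟨z, hzP, hz1⟩ := hz P
    refine hcent P z _ hzP hz1 (mul_inv_eq_iff_eq_mul.1 ?_)
    calc u * v * z * (u * v)⁻¹ = u * (v * z * v⁻¹) * u⁻¹ := by group
      _ = z := by rw [hinv P v hv hvN z hzP, hinv P u hu huN _ (Subgroup.inv_mem _ hzP), inv_inv]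
  have hconj : ∀ t u : G, orderOf t = 2 → orderOf u = 2 → ∃ g, u = g * t * g⁻¹ := by
    intro t u ht hu
    obtain ⟨P, hP⟩ := hN t ht
    obtain ⟨P', hP'⟩ := hN u hu
    obtain ⟨g, rfl⟩ := MulAction.exists_smul_eq G P P'
    set t' := g * t * g⁻¹
    have ht' : orderOf t' = 2 := by
      rw [← ht]; exact orderOf_injective (MulAut.conj g).toMonoidHom (MulAut.conj g).injective t
    have ht'N : t' ∈ Subgroup.normalizer (((g • P : Sylow p G) : Subgroup G) : Set G) := by
      refine Sylow.smul_eq_iff_mem_normalizer.1 ?_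
      rw [mul_smul, mul_smul, inv_smul_smul, Sylow.smul_eq_iff_mem_normalizer.2 hP]
    have hy := hprod _ t' u ht' hu ht'N hP'
    set y := t' * u
    obtain ⟨e, he⟩ := PEl.of_mem (g • P : Sylow p G).isPGroup' hy
    obtain ⟨l, hl⟩ : Odd (p ^ e) := (hp.odd_of_ne_two C.p_ne_two).pow
    set d := (y ^ (l + 1))⁻¹
    have hd : d ∈ ((g • P : Sylow p G) : Subgroup G) := Subgroup.inv_mem _ (Subgroup.pow_mem _ hy _)
    have htt : t' * t' = 1 := by rw [← pow_two, ← ht', pow_orderOf_eq_one]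
    refine ⟨d * g, ?_⟩
    have hd2 : d⁻¹ * d⁻¹ = y := by
      rw [inv_inv, ← pow_add, show l + 1 + (l + 1) = p ^ e + 1 by omega, pow_add, ← he,
        pow_orderOf_eq_one, one_mul, pow_one]
    calc u = t' * (d⁻¹ * d⁻¹) := by rw [hd2, ← mul_assoc, htt, one_mul]
      _ = t' * (t' * d * t'⁻¹ * d⁻¹) := by rw [hinv _ t' ht' ht'N d hd]
      _ = d * t' * d⁻¹ := by
        rw [inv_eq_of_mul_eq_one_right htt]
        simp only [← mul_assoc, htt, one_mul]
      _ = d * g * t * (d * g)⁻¹ := by simp [t', mul_assoc]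
  obtain ⟨t, ht⟩ := exists_prime_orderOf_dvd_card' (G := G) 2 heven
  have htp := C.not_dvd_of_order_two ht
  obtain ⟨Q, hQ⟩ := (show PEl 2 t from ⟨1, by rw [ht, pow_one]⟩).isPGroup.exists_le_sylow
  have htQ : t ∈ (Q : Subgroup G) := hQ (Subgroup.mem_zpowers t)
  have hMp := hp' t (hne1 ht) htp
  have hMab := C.hyp.ab _ hMp
  have hQp := C.not_dvd_sylow (Ne.symm C.p_ne_two) Q
  have hQM : (Q : Subgroup G) ≤ Subgroup.centralizer ({t} : Set G) := fun v hv =>
    Subgroup.mem_centralizer_singleton_iff.2 (C.hyp.ab _ hQp v hv t htQ)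
  have hinQ : ∀ u : G, orderOf u = 2 → (t * u = u * t ↔ u ∈ (Q : Subgroup G)) := by
    intro u hu
    refine ⟨fun h => ?_, fun h => (C.hyp.ab _ hQp u h t htQ).symm⟩
    refine (show PEl 2 u from ⟨1, by rw [hu, pow_one]⟩).mem_sylow Q (Subgroup.centralizer_le_normalizer _ fun v hv => ?_)
    exact hMab v (hQM hv) u (Subgroup.mem_centralizer_singleton_iff.2 h.symm)
  let V := {g : G // orderOf g = 2}
  -- `p` divides the number of involutions commuting with `t`
  have hk : p ∣ Nat.card {u : V // u.1 ∈ (Q : Subgroup G)} := by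
    obtain ⟨x, hx, hxN, v, hv, hxv⟩ := C.exists_acting (Ne.symm C.p_ne_two) heven Q
    have hx1 : x ≠ 1 := fun h => hxv (by simp [h])
    let _ : SMul ↥(Subgroup.zpowers x) {u : V // u.1 ∈ (Q : Subgroup G)} :=
      ⟨fun g u => ⟨⟨(g : G) * u.1.1 * (g : G)⁻¹,
        (orderOf_injective (MulAut.conj (g : G)).toMonoidHom (MulAut.conj (g : G)).injective u.1.1).trans u.1.2⟩,
        (Subgroup.mem_normalizer_iff.1 (Subgroup.zpowers_le.2 hxN g.2) _).1 u.2⟩⟩
    let _ : MulAction ↥(Subgroup.zpowers x) {u : V // u.1 ∈ (Q : Subgroup G)} :=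
      { one_smul := fun u => Subtype.ext (Subtype.ext (by
          show (1 : G) * u.1.1 * (1 : G)⁻¹ = u.1.1
          simp))
        mul_smul := fun g h u => Subtype.ext (Subtype.ext (by
          show (g : G) * h * u.1.1 * ((g : G) * h)⁻¹ = g * (h * u.1.1 * (h : G)⁻¹) * (g : G)⁻¹
          group)) }
    have hmod := hx.isPGroup.card_modEq_card_fixedPoints {u : V // u.1 ∈ (Q : Subgroup G)}
    have hempty : Nat.card (MulAction.fixedPoints ↥(Subgroup.zpowers x) {u : V // u.1 ∈ (Q : Subgroup G)}) = 0 := by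
      rw [Nat.card_eq_zero]
      left
      refine ⟨fun ⟨u, hu⟩ => hne1 u.1.2 (hII u.1.1 x (C.not_dvd_of_order_two u.1.2) hx hx1 ?_)⟩
      have h1 := congrArg (fun w : {u : V // u.1 ∈ (Q : Subgroup G)} => w.1.1) (hu ⟨x, Subgroup.mem_zpowers x⟩)
      exact (mul_inv_eq_iff_eq_mul.1 h1).symm
    rw [hempty] at hmod
    exact Nat.modEq_zero_iff_dvd.1 hmod
  have hn : Nat.card V * Nat.card ↥(Subgroup.centralizer ({t} : Set G)) = Nat.card G := by
    rw [← Subgroup.index_mul_card (Subgroup.centralizer ({t} : Set G))]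
    congr 1
    let f : G ⧸ Subgroup.centralizer ({t} : Set G) → V := Quotient.lift
      (fun g => (⟨g * t * g⁻¹, (orderOf_injective (MulAut.conj g).toMonoidHom (MulAut.conj g).injective t).trans ht⟩ : V))
      (fun a b hab => by
        have h := Subgroup.mem_centralizer_singleton_iff.1 (QuotientGroup.leftRel_apply.1 hab)
        refine Subtype.ext ?_
        have := congrArg (fun v => a * v * b⁻¹) h
        simpa [mul_assoc] using this.symm)
    refine (Nat.card_congr (Equiv.ofBijective f ⟨?_, ?_⟩)).symm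
    · intro a b
      refine Quotient.inductionOn₂' a b fun a b h => ?_
      have h' : a * t * a⁻¹ = b * t * b⁻¹ := congrArg Subtype.val h
      refine Quotient.sound' (QuotientGroup.leftRel_apply.2 (Subgroup.mem_centralizer_singleton_iff.2 ?_))
      have := congrArg (fun v => a⁻¹ * v * b) h'
      simpa [mul_assoc] using this.symm
    · rintro ⟨u, hu⟩
      obtain ⟨g, rfl⟩ := hconj t u ht hu
      exact ⟨Quotient.mk'' g, rfl⟩
  set m := p ^ (Nat.card G).factorization p with hm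
  have hPc : ∀ P : Sylow p G, Nat.card ↥(P : Subgroup G) = m := fun P => P.card_eq_multiplicity
  let Φ : G → Type _ := fun u => {P : Sylow p G // u ∈ Subgroup.normalizer ((P : Subgroup G) : Set G)}
  let Y := {y : G // PEl p y ∧ y ≠ 1 ∧ t * y * t⁻¹ = y⁻¹}
  have htt : t * t = 1 := by rw [← pow_two, ← ht, pow_orderOf_eq_one]
  have hti : t⁻¹ = t := inv_eq_of_mul_eq_one_right htt
  have hVY : Nat.card V = Nat.card {u : V // u.1 ∈ (Q : Subgroup G)} + Nat.card Y := by
    have h2 : Nat.card {u : V // u.1 ∉ (Q : Subgroup G)} = Nat.card Y := by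
      have hmk : ∀ u : G, orderOf u = 2 → u ∉ (Q : Subgroup G) →
          PEl p (t * u) ∧ t * u ≠ 1 ∧ t * (t * u) * t⁻¹ = (t * u)⁻¹ := by
        intro u hu huQ
        have hne : t * u ≠ u * t := fun h => huQ ((hinQ u hu).1 h)
        obtain ⟨y, hy, hy1, hyz, -, -⟩ := C.exists_inverted ht hu hne
        obtain ⟨i, hi⟩ := Subgroup.mem_zpowers_iff.1 hyz
        obtain ⟨P, hP⟩ := hy.isPGroup.exists_le_sylow
        refine ⟨PEl.of_mem P.isPGroup' (hcent P y (t * u) (hP (Subgroup.mem_zpowers y)) hy1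
          (hi ▸ ((Commute.refl (t * u)).zpow_right i)).eq), fun e => huQ ?_, ?_⟩
        · rw [show u = t from mul_left_cancel (e.trans htt.symm)]; exact htQ
        · rw [hti, _root_.mul_inv_rev, inv_eq_of_mul_eq_one_right (show u * u = 1 by
            rw [← pow_two, ← hu, pow_orderOf_eq_one]), hti, ← mul_assoc, htt, one_mul]
      have hmk' : ∀ y : G, PEl p y → y ≠ 1 → t * y * t⁻¹ = y⁻¹ →
          orderOf (t * y) = 2 ∧ t * y ∉ (Q : Subgroup G) := by
        intro y hy hy1 hty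
        refine ⟨orderOf_eq_prime ?_ fun e => hy1 (eq_one_of_pel hy ?_), fun hmem => hy1 (eq_one_of_pel hy ?_)⟩
        · rw [pow_two]
          calc t * y * (t * y) = t * y * t⁻¹ * y := by rw [hti]; group
            _ = 1 := by rw [hty, inv_mul_cancel]
        · rw [eq_inv_of_mul_eq_one_right e, orderOf_inv]; exact htp
        · have h3 := Subgroup.mul_mem _ htQ hmem
          rw [← mul_assoc, htt, one_mul] at h3
          exact fun h => hQp (h.trans (Subgroup.orderOf_dvd_natCard _ h3))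
      refine Nat.card_congr
        { toFun := fun u => ⟨t * u.1.1, hmk u.1.1 u.1.2 u.2⟩
          invFun := fun y => ⟨⟨t * y.1, (hmk' y.1 y.2.1 y.2.2.1 y.2.2.2).1⟩, (hmk' y.1 y.2.1 y.2.2.1 y.2.2.2).2⟩
          left_inv := fun u => Subtype.ext (Subtype.ext (by simp [← mul_assoc, htt]))
          right_inv := fun y => Subtype.ext (by simp [← mul_assoc, htt]) }
    rw [← h2, ← Nat.card_sum]
    exact (Nat.card_congr (Equiv.sumCompl (fun u : V => u.1 ∈ (Q : Subgroup G)))).symm
  have hY : Nat.card Y = Nat.card (Φ t) * (m - 1) := by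
    let e : (Σ P : Φ t, {c : ↥(P.1 : Subgroup G) // c ≠ 1}) → Y := fun x =>
      ⟨x.2.1.1, PEl.of_mem x.1.1.isPGroup' x.2.1.2, fun h => x.2.2 (Subtype.ext h),
        hinv x.1.1 t ht x.1.2 _ x.2.1.2⟩
    have he : Function.Bijective e := by
      constructor
      · rintro ⟨⟨P, hPN⟩, ⟨⟨c, hc⟩, hc1⟩⟩ ⟨⟨P', hP'N⟩, ⟨⟨c', hc'⟩, hc'1⟩⟩ h
        obtain rfl : c = c' := congrArg Subtype.val h
        obtain rfl : P' = P := C.sylow_unique hc (fun e => hc1 (Subtype.ext e)) hc'
        rfl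
      · rintro ⟨y, hy, hy1, hty⟩
        obtain ⟨P, hP⟩ := hy.isPGroup.exists_le_sylow
        have hyP : y ∈ (P : Subgroup G) := hP (Subgroup.mem_zpowers y)
        exact ⟨⟨⟨P, C.mem_normalizer_of_inverts ht hy1 hty hyP⟩,
          ⟨⟨y, hyP⟩, fun h => hy1 (congrArg Subtype.val h)⟩⟩, rfl⟩
    rw [← Nat.card_congr (Equiv.ofBijective e he)]
    have := Fintype.ofFinite (Φ t)
    rw [Nat.card_sigma, Finset.sum_const_nat (m := m - 1) fun P _ => ?_, Finset.card_univ, Nat.card_eq_fintype_card]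
    have := Fintype.ofFinite ↥(P.1 : Subgroup G)
    rw [Nat.card_eq_fintype_card, Fintype.card_subtype_compl, Fintype.card_subtype_eq,
      ← Nat.card_eq_fintype_card, hPc]
  have hΦ : Nat.card V * Nat.card (Φ t) = Nat.card (Sylow p G) * m := by
    have hΦu : ∀ u : V, Nat.card (Φ u.1) = Nat.card (Φ t) := by
      rintro ⟨u, hu⟩
      obtain ⟨g, rfl⟩ := hconj t u ht hu
      refine (Nat.card_congr (Equiv.subtypeEquiv (MulAction.toPerm g) fun P => ?_)).symm
      rw [MulAction.toPerm_apply]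
      constructor
      · intro h
        refine Sylow.smul_eq_iff_mem_normalizer.1 ?_
        rw [mul_smul, mul_smul, inv_smul_smul, Sylow.smul_eq_iff_mem_normalizer.2 h]
      · intro h
        refine Sylow.smul_eq_iff_mem_normalizer.1 (MulAction.injective g ?_)
        have := Sylow.smul_eq_iff_mem_normalizer.2 h
        rwa [mul_smul, mul_smul, inv_smul_smul] at this
    have hI : ∀ P : Sylow p G,
        Nat.card {u : V // u.1 ∈ Subgroup.normalizer ((P : Subgroup G) : Set G)} = m := by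
      intro P
      obtain ⟨P', hP'⟩ := hN t ht
      obtain ⟨g, hg⟩ := MulAction.exists_smul_eq G P' P
      set u₀ := g * t * g⁻¹
      have hu₀ : orderOf u₀ = 2 :=
        (orderOf_injective (MulAut.conj g).toMonoidHom (MulAut.conj g).injective t).trans ht
      have hu₀N : u₀ ∈ Subgroup.normalizer ((P : Subgroup G) : Set G) := by
        refine Sylow.smul_eq_iff_mem_normalizer.1 ?_
        rw [← hg, mul_smul, mul_smul, inv_smul_smul, Sylow.smul_eq_iff_mem_normalizer.2 hP']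
      have hu₀u : u₀ * u₀ = 1 := by rw [← pow_two, ← hu₀, pow_orderOf_eq_one]
      have hmk : ∀ c ∈ (P : Subgroup G), orderOf (u₀ * c) = 2 := by
        intro c hc
        refine orderOf_eq_prime ?_ fun e => hne1 hu₀ (eq_one_of_pel ?_ (C.not_dvd_of_order_two hu₀))
        · rw [pow_two]
          calc u₀ * c * (u₀ * c) = u₀ * c * u₀⁻¹ * c := by
                rw [inv_eq_of_mul_eq_one_right hu₀u]; group
            _ = 1 := by rw [hinv P u₀ hu₀ hu₀N c hc, inv_mul_cancel]
        · rw [mul_eq_one_iff_eq_inv.1 e]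
          exact PEl.of_mem P.isPGroup' (Subgroup.inv_mem _ hc)
      rw [← hPc P]
      refine (Nat.card_congr
        { toFun := fun c => ⟨⟨u₀ * c.1, hmk c.1 c.2⟩,
            Subgroup.mul_mem _ hu₀N (Subgroup.le_normalizer c.2)⟩
          invFun := fun u => ⟨u₀ * u.1.1, hprod P u₀ u.1.1 hu₀ u.1.2 hu₀N u.2⟩
          left_inv := fun c => Subtype.ext (by simp [← mul_assoc, hu₀u])
          right_inv := fun u => Subtype.ext (Subtype.ext (by simp [← mul_assoc, hu₀u])) }).symm
    have := Fintype.ofFinite V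
    have := Fintype.ofFinite (Sylow p G)
    have e : (Σ u : V, Φ u.1) ≃ (Σ P : Sylow p G, {u : V // u.1 ∈ Subgroup.normalizer ((P : Subgroup G) : Set G)}) :=
      { toFun := fun x => ⟨x.2.1, ⟨x.1, x.2.2⟩⟩
        invFun := fun x => ⟨x.2.1, ⟨x.1, x.2.2⟩⟩
        left_inv := fun x => rfl
        right_inv := fun x => rfl }
    have h := Nat.card_congr e
    rwa [Nat.card_sigma, Nat.card_sigma, Finset.sum_const_nat (m := Nat.card (Φ t)) fun u _ => hΦu u,
      Finset.sum_const_nat (m := m) fun P _ => hI P, Finset.card_univ, Finset.card_univ,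
      ← Nat.card_eq_fintype_card, ← Nat.card_eq_fintype_card] at h
  have hv : 0 < (Nat.card G).factorization p := hp.factorization_pos_of_dvd Nat.card_pos.ne' C.dvd
  obtain ⟨M, hM⟩ : m ∣ Nat.card V :=
    (Nat.Coprime.pow_left _ (hp.coprime_iff_not_dvd.2 hMp)).dvd_of_dvd_mul_right (hn ▸ Nat.ordProj_dvd _ p)
  have hΦp : ¬ p ∣ Nat.card (Φ t) := by
    intro h
    refine not_dvd_card_sylow p G (h.trans ⟨M, ?_⟩)
    rw [hM, mul_assoc, mul_comm (Nat.card (Sylow p G)) m] at hΦ
    rw [← Nat.eq_of_mul_eq_mul_left (pow_pos hp.pos _) hΦ, mul_comm]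
  have hpm : p ∣ m := dvd_pow_self p hv.ne'
  have h3 : p ∣ Nat.card Y := (Nat.dvd_add_right hk).1 (hVY ▸ (hpm.trans ⟨M, hM⟩))
  rw [hY] at h3
  rcases hp.dvd_mul.1 h3 with h | h
  · exact hΦp h
  · have hm1 : 1 ≤ m := pow_pos hp.pos _
    have := Nat.dvd_sub hpm h
    rw [Nat.sub_sub_self hm1] at this
    exact hp.not_dvd_one this

/-- The simple configuration does not occur. -/
theorem false : False := by
  by_cases h : ∀ c x : G, ¬ p ∣ orderOf c → PEl p x → x ≠ 1 → c * x = x * c → c = 1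
  · exact C.false_of_not_mixed h
  · push Not at h
    obtain ⟨c, x, hc, hx, hx1, hcx, hc1⟩ := h
    exact C.false_of_mixed hc hc1 hx hx1 hcx

end CConf

/-- With a cyclic Sylow `p`-subgroup and abelian subgroups of order prime to `p`, there is a normal
`p`-complement or the Sylow `p`-subgroups are normal. -/
theorem concl_of_hyp {G : Type*} [Group G] [Finite G] {p : ℕ} [Fact p.Prime] (h : Hyp G p) : Concl G p :=
  concl_of_no_conf _ (fun _ _ _ _ C => C.false) G rfl h

end CfsgLib.FgsSix.CyclicAbelian
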